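import Mathlib

/-!
Sums of two powers of two modulo a divisor `(2 ^ n - 1) / d` with `d ∣ n`.
-/

set_option autoImplicit false

namespace CfsgLib.Recog.SuzukiSolv

/-- Sums of two powers of two determine the exponents. -/
theorem pair_eq {a b c e : ℕ} (h : 2 ^ a + 2 ^ b = 2 ^ c + 2 ^ e) :
    (a = c ∧ b = e) ∨ (a = e ∧ b = c) := by
  wlog hab : a ≤ b generalizing a b
  · rcases this (a := b) (b := a) (by omega) (by omega) with ⟨h1, h2⟩ | ⟨h1, h2⟩
    · exact Or.inr ⟨h2, h1⟩
    · exact Or.inl ⟨h2, h1⟩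
  wlog hce : c ≤ e generalizing c e
  · rcases this (c := e) (e := c) (by omega) (by omega) with ⟨h1, h2⟩ | ⟨h1, h2⟩
    · exact Or.inr ⟨h1, h2⟩
    · exact Or.inl ⟨h1, h2⟩
  have hval : ∀ x y : ℕ, x ≤ y → (x = y ∧ 2 ^ x + 2 ^ y = 2 ^ (x + 1)) ∨
      (x < y ∧ ∃ t, 2 ^ x + 2 ^ y = 2 ^ x * (2 * t + 1) ∧ 2 * t = 2 ^ (y - x)) := by
    intro x y hxy
    rcases eq_or_lt_of_le hxy with rfl | hlt
    · exact Or.inl ⟨rfl, by ring⟩
    · refine Or.inr ⟨hlt, 2 ^ (y - x - 1), ?_, ?_⟩
      · rw [← pow_succ', show y - x - 1 + 1 = y - x by omega, mul_add, mul_one, ← pow_add,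
          show x + (y - x) = y by omega]; ring
      · rw [← pow_succ']; congr 1; omega
  have huniq : ∀ u v s t : ℕ, Odd s → Odd t → 2 ^ u * s = 2 ^ v * t → u = v ∧ s = t := by
    intro u v s t hs ht h
    have key : ∀ u v s t : ℕ, Odd s → u < v → 2 ^ u * s ≠ 2 ^ v * t := by
      intro u v s t hs hlt h
      obtain ⟨k, rfl⟩ := Nat.exists_eq_add_of_lt hlt
      rw [add_assoc, pow_add, mul_assoc, pow_succ', mul_assoc] at h
      have := Nat.eq_of_mul_eq_mul_left (by positivity) h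
      obtain ⟨r, rfl⟩ := hs
      omega
    rcases lt_trichotomy u v with hlt | rfl | hlt
    · exact absurd h (key u v s t hs hlt)
    · exact ⟨rfl, Nat.eq_of_mul_eq_mul_left (by positivity) h⟩
    · exact absurd h.symm (key v u t s ht hlt)
  rcases hval a b hab with ⟨hab', ha⟩ | ⟨hab', t, ha, ht⟩ <;>
    rcases hval c e hce with ⟨hce', hc⟩ | ⟨hce', r, hc, hr⟩ <;> rw [ha, hc] at h
  · have := Nat.pow_right_injective le_rfl h
    left; omega
  · rw [← mul_one (2 ^ (a + 1))] at h
    have := (huniq _ _ _ _ odd_one ⟨r, rfl⟩ h).2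
    have : 0 < 2 ^ (e - c) := by positivity
    omega
  · rw [← mul_one (2 ^ (c + 1))] at h
    have := (huniq _ _ _ _ ⟨t, rfl⟩ odd_one h).2
    have : 0 < 2 ^ (b - a) := by positivity
    omega
  · obtain ⟨h1, h2⟩ := huniq _ _ _ _ ⟨t, rfl⟩ ⟨r, rfl⟩ h
    have h3 : 2 ^ (b - a) = 2 ^ (e - c) := by omega
    have := Nat.pow_right_injective le_rfl h3
    left; omega

/-- The check for one pair `(n, d)`. -/
def checkPair (n d : ℕ) : Bool :=
  (List.range n).all fun a => (List.range n).all fun b => !decide (a ≤ b) ||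
    (List.range n).all fun c => (List.range n).all fun e => !decide (c ≤ e) ||
      ((2 ^ a + 2 ^ b) % ((2 ^ n - 1) / d) != (2 ^ c + 2 ^ e) % ((2 ^ n - 1) / d)) ||
        ((a + b) % n == (c + e) % n && (decide (c < e) || a == b))

set_option maxRecDepth 100000 in
theorem check_table : ∀ p ∈ [(6, 3), (12, 3), (18, 3), (18, 9), (20, 5), (21, 7)],
    checkPair p.1 p.2 = true := by decide +kernel

set_option synthInstance.maxSize 20000 in
set_option synthInstance.maxHeartbeats 400000 in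
set_option maxRecDepth 100000 in
theorem small_cases : ∀ n < 50, ∀ d < n + 1, 1 < d → n % d = 0 → (2 ^ n - 1) % d = 0 →
    2 ^ (n / 5) < 4 * d → (n, d) ∈ [(6, 3), (12, 3), (18, 3), (18, 9), (20, 5), (21, 7)] := by
  decide +kernel

theorem four_n_le : ∀ n, 50 ≤ n → 4 * n ≤ 2 ^ (n / 5) := by
  intro n hn
  have key : ∀ g, 10 ≤ g → 4 * (5 * g + 5) ≤ 2 ^ g := by
    intro g hg
    induction g, hg using Nat.le_induction with
    | base => norm_num
    | succ g hg ih => rw [pow_succ]; omega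
  have := key (n / 5) (by omega)
  omega

/-- The arithmetic lemma. -/
theorem sums_mod {n d m : ℕ} (hdn : d ∣ n) (hm : d * m = 2 ^ n - 1) {a b c e : ℕ}
    (ha : a < n) (hb : b < n) (hc : c < n) (he : e < n)
    (h : 2 ^ a + 2 ^ b ≡ 2 ^ c + 2 ^ e [MOD m]) :
    (a + b) % n = (c + e) % n ∧ (c = e → a = b) := by
  have hd0 : 0 < d := Nat.pos_of_dvd_of_pos hdn (by omega)
  have h2n : 1 < 2 ^ n := Nat.one_lt_two_pow (by omega)
  have concl : ∀ {a b c e : ℕ}, 2 ^ a + 2 ^ b = 2 ^ c + 2 ^ e →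
      (a = c ∧ b = e) ∨ (a = e ∧ b = c) := pair_eq
  by_cases hd1 : d = 1
  · subst hd1
    rw [one_mul] at hm
    subst hm
    have hle : ∀ x y, x < n → y < n → 2 ≤ 2 ^ x + 2 ^ y ∧ 2 ^ x + 2 ^ y ≤ 2 ^ n := by
      intro x y hx hy
      have h1 : 0 < 2 ^ x := by positivity
      have h2 : 0 < 2 ^ y := by positivity
      have h3 : 2 * 2 ^ x ≤ 2 ^ n := by
        rw [← pow_succ']; exact Nat.pow_le_pow_right (by norm_num) hx
      have h4 : 2 * 2 ^ y ≤ 2 ^ n := by
        rw [← pow_succ']; exact Nat.pow_le_pow_right (by norm_num) hy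
      omega
    obtain ⟨l1, u1⟩ := hle a b ha hb
    obtain ⟨l2, u2⟩ := hle c e hc he
    have heq : 2 ^ a + 2 ^ b = 2 ^ c + 2 ^ e := by
      generalize 2 ^ a + 2 ^ b = A at *
      generalize 2 ^ c + 2 ^ e = B at *
      rcases le_total A B with hAB | hAB
      · have := Nat.eq_zero_of_dvd_of_lt ((Nat.modEq_iff_dvd' hAB).mp h) (by omega)
        omega
      · have := Nat.eq_zero_of_dvd_of_lt ((Nat.modEq_iff_dvd' hAB).mp h.symm) (by omega)
        omega
    rcases concl heq with ⟨rfl, rfl⟩ | ⟨rfl, rfl⟩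
    · exact ⟨rfl, id⟩
    · exact ⟨by rw [add_comm], fun h => h.symm⟩
  by_cases hsmall : 2 ^ (n / 5) < 4 * d
  · have hn50 : n < 50 := by
      by_contra hge
      have := four_n_le n (by omega)
      have := Nat.le_of_dvd (by omega : 0 < n) hdn
      omega
    have hmem := small_cases n hn50 d (by have := Nat.le_of_dvd (by omega : 0 < n) hdn; omega)
      (by omega) (Nat.mod_eq_zero_of_dvd hdn) (by rw [← hm]; exact Nat.mul_mod_right d m) hsmall
    have hchk := check_table (n, d) hmem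
    have hmd : (2 ^ n - 1) / d = m := by rw [← hm, Nat.mul_div_cancel_left _ hd0]
    simp only [checkPair, List.all_eq_true, List.mem_range, Bool.or_eq_true, Bool.not_eq_true',
      decide_eq_false_iff_not, Bool.and_eq_true, beq_iff_eq, bne_iff_ne, decide_eq_true_eq, hmd] at hchk
    have hh : (2 ^ a + 2 ^ b) % m = (2 ^ c + 2 ^ e) % m := h
    have main : ∀ a b c e, a < n → b < n → c < n → e < n → a ≤ b → c ≤ e →
        (2 ^ a + 2 ^ b) % m = (2 ^ c + 2 ^ e) % m → (a + b) % n = (c + e) % n ∧ (c = e → a = b) := by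
      intro a b c e ha hb hc he hab hce hh
      rcases hchk a ha b hb with h' | h'
      · exact absurd hab h'
      rcases h' c hc e he with (h'' | h'') | ⟨h1, h2⟩
      · exact absurd hce h''
      · exact absurd hh h''
      · exact ⟨h1, fun hce' => h2.elim (fun h3 => absurd hce' h3.ne) id⟩
    rcases le_total a b with hab | hab <;> rcases le_total c e with hce | hce
    · exact main a b c e ha hb hc he hab hce hh
    · obtain ⟨h1, h2⟩ := main a b e c ha hb he hc hab hce (by rw [hh, add_comm])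
      exact ⟨by rw [h1, add_comm], fun hce' => h2 hce'.symm⟩
    · obtain ⟨h1, h2⟩ := main b a c e hb ha hc he hab hce (by rw [add_comm, hh])
      exact ⟨by rw [add_comm, h1], fun hce' => (h2 hce').symm⟩
    · obtain ⟨h1, h2⟩ := main b a e c hb ha he hc hab hce (by rw [add_comm, hh, add_comm])
      exact ⟨by rw [add_comm, h1, add_comm], fun hce' => (h2 hce'.symm).symm⟩
  push Not at hsmall
  set g := n / 5 with hg
  have hg2 : 2 ≤ g := by
    by_contra hlt
    have : 2 ^ g ≤ 2 ^ 1 := Nat.pow_le_pow_right (by norm_num) (by omega)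
    omega
  obtain ⟨i, hi, hfree⟩ : ∃ i < 5, ∀ x ∈ [a, b, c, e], ¬ (i * g ≤ x ∧ x < (i + 1) * g) := by
    by_contra hno
    push Not at hno
    have h0 := hno 0 (by omega); have h1 := hno 1 (by omega); have h2 := hno 2 (by omega)
    have h3 := hno 3 (by omega); have h4 := hno 4 (by omega)
    simp only [List.mem_cons, List.not_mem_nil, or_false] at h0 h1 h2 h3 h4
    obtain ⟨x0, q0, p0⟩ := h0; obtain ⟨x1, q1, p1⟩ := h1; obtain ⟨x2, q2, p2⟩ := h2
    obtain ⟨x3, q3, p3⟩ := h3; obtain ⟨x4, q4, p4⟩ := h4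
    have hinj : Set.InjOn (fun x : ℕ => x) (↑({x0, x1, x2, x3, x4} : Finset ℕ)) := fun _ _ _ _ h => h
    have hcard : ({x0, x1, x2, x3, x4} : Finset ℕ).card = 5 := by
      rw [Finset.card_insert_of_notMem (by simp; omega), Finset.card_insert_of_notMem (by simp; omega),
        Finset.card_insert_of_notMem (by simp; omega), Finset.card_insert_of_notMem (by simp; omega),
        Finset.card_singleton]
    have hsub : ({x0, x1, x2, x3, x4} : Finset ℕ) ⊆ {a, b, c, e} := by
      intro x hx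
      simp only [Finset.mem_insert, Finset.mem_singleton] at hx ⊢
      rcases hx with rfl | rfl | rfl | rfl | rfl <;> assumption
    have := Finset.card_le_card hsub
    have : ({a, b, c, e} : Finset ℕ).card ≤ 4 := Finset.card_le_four
    omega
  have hig : (i + 1) * g ≤ n :=
    le_trans (Nat.mul_le_mul_right g (by omega : i + 1 ≤ 5)) (Nat.mul_div_le n 5)
  obtain ⟨k, hk⟩ := Nat.exists_eq_add_of_le hig
  let sh : ℕ → ℕ := fun x => (x + k) % n
  have hshlt : ∀ x ∈ [a, b, c, e], x < n → sh x + g < n := by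
    intro x hx hxn
    have hxi := hfree x hx
    have e1 : (i + 1) * g = i * g + g := by ring
    rw [e1] at hxi hk
    simp only [sh]
    rcases Nat.lt_or_ge (x + k) n with hlt | hge
    · rw [Nat.mod_eq_of_lt hlt]
      by_contra hno
      exact hxi ⟨by omega, by omega⟩
    · rw [Nat.mod_eq_sub_mod hge, Nat.mod_eq_of_lt (by omega)]
      omega
  have hone : 2 ^ n ≡ 1 [MOD m] := by
    apply Nat.ModEq.symm
    rw [Nat.modEq_iff_dvd' (by omega)]
    exact ⟨d, by rw [← hm, mul_comm]⟩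
  have hshift : ∀ x, 2 ^ (x + k) ≡ 2 ^ sh x [MOD m] := by
    intro x
    conv_lhs => rw [← Nat.div_add_mod (x + k) n, pow_add, pow_mul]
    have := (hone.pow ((x + k) / n)).mul_right (2 ^ sh x)
    rwa [one_pow, one_mul] at this
  have hmod : 2 ^ sh a + 2 ^ sh b ≡ 2 ^ sh c + 2 ^ sh e [MOD m] := by
    refine ((hshift a).add (hshift b)).symm.trans (Nat.ModEq.trans ?_ ((hshift c).add (hshift e)))
    rw [pow_add, pow_add, pow_add, pow_add, ← add_mul, ← add_mul]
    exact h.mul_right _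
  have hbound : ∀ x y, x + g < n → y + g < n → 2 ^ x + 2 ^ y ≤ m := by
    intro x y hx hy
    have hA : 2 ^ x ≤ 2 ^ (n - g - 1) := Nat.pow_le_pow_right (by norm_num) (by omega)
    have hB : 2 ^ y ≤ 2 ^ (n - g - 1) := Nat.pow_le_pow_right (by norm_num) (by omega)
    have hD : 4 * d * 2 ^ (n - g - 1) ≤ 2 ^ g * 2 ^ (n - g - 1) := Nat.mul_le_mul_right _ hsmall
    rw [← pow_add, show g + (n - g - 1) = n - 1 by omega] at hD
    have h2 : 2 ^ n = 2 * 2 ^ (n - 1) := by rw [← pow_succ']; congr 1; omega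
    refine Nat.le_of_mul_le_mul_left ?_ hd0
    have hx' := Nat.mul_le_mul_left d hA
    have hy' := Nat.mul_le_mul_left d hB
    have hpos : 1 ≤ 2 ^ (n - 1) := Nat.one_le_two_pow
    rw [mul_add, hm, h2]
    rw [mul_assoc] at hD
    omega
  have hla := hshlt a (by simp) ha
  have hlb := hshlt b (by simp) hb
  have hlc := hshlt c (by simp) hc
  have hle := hshlt e (by simp) he
  have heq : 2 ^ sh a + 2 ^ sh b = 2 ^ sh c + 2 ^ sh e := by
    have b1 := hbound _ _ hla hlb
    have b2 := hbound _ _ hlc hle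
    have p1 : 0 < 2 ^ sh a + 2 ^ sh b := by positivity
    have p2 : 0 < 2 ^ sh c + 2 ^ sh e := by positivity
    generalize 2 ^ sh a + 2 ^ sh b = A at *
    generalize 2 ^ sh c + 2 ^ sh e = B at *
    clear * - b1 b2 p1 p2 hmod
    rcases le_total A B with hAB | hAB
    · have := Nat.eq_zero_of_dvd_of_lt ((Nat.modEq_iff_dvd' hAB).mp hmod) (by omega)
      omega
    · have := Nat.eq_zero_of_dvd_of_lt ((Nat.modEq_iff_dvd' hAB).mp hmod.symm) (by omega)
      omega
  have hsinj : ∀ x y, x < n → y < n → sh x = sh y → x = y := by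
    intro x y hx hy hxy
    have h1 : (x + k) ≡ (y + k) [MOD n] := hxy
    exact Nat.ModEq.eq_of_lt_of_lt (Nat.ModEq.add_right_cancel' k h1) hx hy
  rcases concl heq with ⟨h1, h2⟩ | ⟨h1, h2⟩
  · obtain rfl := hsinj _ _ ha hc h1
    obtain rfl := hsinj _ _ hb he h2
    exact ⟨rfl, id⟩
  · obtain rfl := hsinj _ _ ha he h1
    obtain rfl := hsinj _ _ hb hc h2
    exact ⟨by rw [add_comm], fun h => h.symm⟩

end CfsgLib.Recog.SuzukiSolv
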