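import Mathlib
import Cfsg.Agent.Recog.SuzukiSolvable.Arith
import Cfsg.Agent.Recog.FieldSpan
import Cfsg.Agent.Zassenhaus.Huppert

/-!
An elementary abelian 2-group with a solvable group of automorphisms transitive on the nonidentity
elements: field coordinates with a large multiplication in the group.
-/

set_option autoImplicit false
set_option linter.style.haveILetI false

namespace CfsgLib.Recog.SuzukiSolv

/-- The field automorphisms are powers of squaring. -/
theorem exists_exp (F : Type) [Field F] [Fintype F] [CharP F 2] :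
    ∃ n : ℕ, 0 < n ∧ Fintype.card F = 2 ^ n ∧ Nat.card (F ≃+* F) = n ∧
      ∀ σ : F ≃+* F, ∃ s < n, ∀ x : F, σ x = x ^ 2 ^ s := by
  letI : Algebra (ZMod 2) F := ZMod.algebra F 2
  haveI : Fact (Nat.Prime 2) := ⟨Nat.prime_two⟩
  haveI : Module.Finite (ZMod 2) F := Module.Finite.of_finite
  refine ⟨Module.finrank (ZMod 2) F, Module.finrank_pos, ?_, FieldSpan.card_aut, fun σ => ?_⟩
  · rw [← Nat.card_eq_fintype_card, Module.natCard_eq_pow_finrank (K := ZMod 2), Nat.card_zmod]
  let A : F →ₐ[ZMod 2] F :=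
    { (σ : F →+* F) with
      commutes' := fun x =>
        RingHom.congr_fun (RingHom.ext_zmod ((σ : F →+* F).comp (algebraMap (ZMod 2) F)) (algebraMap (ZMod 2) F)) x }
  obtain ⟨j, hj⟩ := (FiniteField.bijective_frobeniusAlgHom_pow (ZMod 2) F).2 A
  refine ⟨j, j.2, fun x => ?_⟩
  have h1 : A x = x ^ 2 ^ (j : ℕ) := by
    rw [← hj]
    have : ∀ i : ℕ, ∀ y : F, (FiniteField.frobeniusAlgHom (ZMod 2) F ^ i) y = y ^ 2 ^ i := by
      intro i
      induction i with
      | zero => intro y; simp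
      | succ i ih =>
        intro y
        rw [pow_succ', AlgHom.mul_apply, ih, FiniteField.coe_frobeniusAlgHom, ZMod.card]
        dsimp only
        rw [← pow_mul, pow_succ]
    exact this j x
  exact h1

theorem aut_comm {F : Type} [Field F] [Fintype F] [CharP F 2] (σ τ : F ≃+* F) (x : F) :
    σ (τ x) = τ (σ x) := by
  obtain ⟨n, -, -, -, h⟩ := exists_exp F
  obtain ⟨s, -, hs⟩ := h σ
  obtain ⟨t, -, ht⟩ := h τ
  rw [hs, ht, hs, ht, ← pow_mul, ← pow_mul, mul_comm]

/-- Field coordinates. -/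
theorem field_main {M : Type*} [Group M] [Finite M] [Nontrivial M] (hM : ∀ x : M, x * x = 1)
    {G : Type*} [Group G] (φ : G →* MulAut M) [Group.IsSolvable G]
    (htr : ∀ x y : M, x ≠ 1 → y ≠ 1 → ∃ g : G, φ g x = y) :
    ∃ (F : Type) (_ : Field F) (_ : Fintype F) (_ : CharP F 2) (E : M ≃ F) (g₀ : G) (ω : F),
      (∀ x y, E (x * y) = E x + E y) ∧ ω ≠ 0 ∧ (∀ x, E (φ g₀ x) = ω * E x) ∧
        (∀ σ τ : F ≃+* F, σ ω * τ ω = ω → σ = τ) ∧
        (∀ σ τ ρ : F ≃+* F, ρ (ω / σ ω) = ω / τ ω → σ = τ) ∧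
        (2 < Nat.card F → ω ≠ 1) ∧
        ∀ g : G, ∃ a : F, a ≠ 0 ∧ ∃ ρ : F ≃+* F, ∀ x, E (φ g x) = a * ρ (E x) := by
  classical
  have hinv : ∀ x : M, x⁻¹ = x := fun x => inv_eq_of_mul_eq_one_right (hM x)
  letI : CommGroup M :=
    { (inferInstance : Group M) with
      mul_comm := fun a b => by rw [← hinv (a * b), mul_inv_rev, hinv, hinv] }
  letI : Module (ZMod 2) (Additive M) :=
    AddCommGroup.zmodModule (n := 2) fun x => by rw [two_nsmul]; exact hM x.toMul
  haveI : Fact (Nat.Prime 2) := ⟨Nat.prime_two⟩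
  let toLin : MulAut M →* (Additive M ≃ₗ[ZMod 2] Additive M) := MonoidHom.mk'
    (fun f => { (MulEquiv.toAdditive f : Additive M ≃+ Additive M) with
      map_smul' := fun c x => ZMod.map_smul (MulEquiv.toAdditive f : Additive M ≃+ Additive M) c x })
    (fun f f' => LinearEquiv.ext fun x => rfl)
  have htoLin : ∀ (f : MulAut M) (x : M), toLin f (Additive.ofMul x) = Additive.ofMul (f x) :=
    fun _ _ => rfl
  set H := φ.range
  haveI : Finite (MulAut M) := Finite.of_injective _ DFunLike.coe_injective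
  have hsolH : Group.IsSolvable H :=
    Group.isSolvable_of_surjective φ.rangeRestrict_surjective
  obtain ⟨F, hF1, hF2, e, he⟩ | hbad := CfsgLib.Huppert.main (q := 2) (V := Additive M) hsolH
    (toLin.comp H.subtype) (by
      intro a b h
      apply Subtype.ext
      ext x
      have := congrArg (fun f => f (Additive.ofMul x)) h
      simp only [MonoidHom.comp_apply, htoLin] at this
      exact Additive.ofMul.injective this)
    (by
      intro v w hv hw
      obtain ⟨g, hg⟩ := htr v.toMul w.toMul hv hw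
      exact ⟨⟨φ g, g, rfl⟩, congrArg Additive.ofMul hg⟩)
  swap
  · exfalso
    have hpow : IsPGroup 2 M := fun x => ⟨1, by rw [pow_one, sq]; exact hM x⟩
    obtain ⟨k, hk⟩ := hpow.exists_card_eq
    have : Nat.card (Additive M) = 2 ^ k := hk
    rw [this] at hbad
    simp only [Set.mem_insert_iff, Set.mem_singleton_iff] at hbad
    have hodd : Odd (2 ^ k) := by rcases hbad with h | h | h | h | h | h <;> rw [h] <;> decide
    rcases k with _ | k
    · simp at hbad
    · exact absurd hodd (Nat.not_odd_iff_even.mpr ⟨2 ^ k, by ring⟩)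
  letI := hF1
  letI := hF2
  let E : M ≃ F := Additive.ofMul.trans e.toEquiv
  have hadd : ∀ x y, E (x * y) = E x + E y := fun x y => by
    show e (Additive.ofMul (x * y)) = _
    rw [ofMul_mul, map_add]; rfl
  haveI hchar : CharP F 2 := by
    obtain ⟨x0, hx0⟩ := exists_ne (1 : M)
    have h0 : E x0 ≠ 0 := by
      intro h
      apply hx0
      apply E.injective
      rw [h]
      have := hadd 1 1
      rw [mul_one] at this
      exact (left_eq_add.1 this).symm
    have h2 : E x0 + E x0 = 0 := by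
      rw [← hadd, hM]
      have := hadd 1 1
      rw [mul_one] at this
      exact left_eq_add.1 this
    have h22 : (2 : F) * E x0 = 0 := by rw [two_mul]; exact h2
    have : (2 : F) = 0 := (mul_eq_zero.1 h22).resolve_right h0
    exact CharTwo.of_one_ne_zero_of_two_eq_zero one_ne_zero this
  -- semilinear coordinates of the group
  have hsemi : ∀ g : G, ∃ p : Fˣ × (F ≃+* F), ∀ x, E (φ g x) = p.1 * p.2 (E x) := by
    intro g
    obtain ⟨a, σ, hσ⟩ := he ⟨φ g, g, rfl⟩
    have h : ∀ x, E (φ g x) = a * σ (E x) := fun x => hσ (Additive.ofMul x)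
    have ha : a ≠ 0 := by
      intro ha
      obtain ⟨x0, hx0⟩ := exists_ne (1 : M)
      have h1 := h x0
      have h2 := h 1
      rw [ha, zero_mul] at h1 h2
      exact hx0 ((φ g).injective (E.injective (h1.trans h2.symm)))
    exact ⟨(Units.mk0 a ha, σ), h⟩
  choose p hp using hsemi
  have huniq : ∀ (g : G) (a : F) (σ : F ≃+* F), (∀ x, E (φ g x) = a * σ (E x)) →
      a = (p g).1 ∧ σ = (p g).2 := by
    intro g a σ h
    have hz : ∀ z : F, a * σ z = ((p g).1 : F) * (p g).2 z := fun z => by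
      rw [← E.apply_symm_apply z, ← h, hp]
    have ha : a = (p g).1 := by simpa using hz 1
    refine ⟨ha, RingEquiv.ext fun z => ?_⟩
    have := hz z
    rw [ha] at this
    exact mul_left_cancel₀ (Units.ne_zero _) this
  have hpmul : ∀ g h : G, (p (g * h)).2 = (p g).2 * (p h).2 := fun g h =>
    ((huniq (g * h) (((p g).1 : F) * (p g).2 ((p h).1 : F)) ((p g).2 * (p h).2) fun x => by
      rw [map_mul, MulAut.mul_apply, hp, hp, map_mul, RingAut.mul_apply, mul_assoc]).2).symm
  let ψ : H →* (F ≃+* F) := MonoidHom.mk'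
    (fun h => (p (Classical.choose (show ∃ g, φ g = (h : MulAut M) from h.2))).2) (fun a b => by
      set ga := Classical.choose (show ∃ g, φ g = (a : MulAut M) from a.2) with hga
      set gb := Classical.choose (show ∃ g, φ g = (b : MulAut M) from b.2) with hgb
      set gc := Classical.choose (show ∃ g, φ g = ((a * b : H) : MulAut M) from (a * b).2) with hgc
      have ea : φ ga = a := Classical.choose_spec (show ∃ g, φ g = (a : MulAut M) from a.2)
      have eb : φ gb = b := Classical.choose_spec (show ∃ g, φ g = (b : MulAut M) from b.2)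
      have ec : φ gc = (a * b : H) :=
        Classical.choose_spec (show ∃ g, φ g = ((a * b : H) : MulAut M) from (a * b).2)
      rw [← hpmul]
      refine (huniq gc (p (ga * gb)).1 (p (ga * gb)).2 fun x => ?_).2.symm
      rw [ec, Subgroup.coe_mul, ← ea, ← eb, ← map_mul]
      exact hp _ x)
  have hψ : ∀ h : H, ∃ g, φ g = (h : MulAut M) ∧ ψ h = (p g).2 := fun h =>
    ⟨_, Classical.choose_spec (show ∃ g, φ g = (h : MulAut M) from h.2), rfl⟩
  -- the linear part
  have hker : ∀ h : ψ.ker, ∃ a : Fˣ, ∀ x, E (((h : H) : MulAut M) x) = a * E x := by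
    intro h
    obtain ⟨g, hg, hg'⟩ := hψ (h : H)
    refine ⟨(p g).1, fun x => ?_⟩
    show E (((h : H) : MulAut M) x) = _
    rw [← hg, hp, show (p g).2 = 1 from hg'.symm.trans h.2]
    rfl
  choose c hc using hker
  have hcinj : Function.Injective c := fun h h' e => by
    apply Subtype.ext; apply Subtype.ext
    refine MulEquiv.ext fun x => E.injective ?_
    exact (hc h x).trans ((by rw [e]) : _ = _) |>.trans (hc h' x).symm
  let cHom : ψ.ker →* Fˣ := MonoidHom.mk' c fun h h' => by
    apply Units.ext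
    have h1 := hc (h * h') (E.symm 1)
    have h2 := hc h (((h' : H) : MulAut M) (E.symm 1))
    have h3 := hc h' (E.symm 1)
    rw [Equiv.apply_symm_apply, mul_one] at h1 h3
    rw [Units.val_mul, ← h1, ← h3]
    exact h2
  haveI : Finite (F ≃+* F) := Finite.of_injective _ DFunLike.coe_injective
  obtain ⟨n, hn0, hcardF, hcardA, hexp⟩ := exists_exp F
  have hN : Nat.card Fˣ = 2 ^ n - 1 := by rw [Nat.card_units, Nat.card_eq_fintype_card, hcardF]
  have hcardL : Nat.card ψ.ker ∣ 2 ^ n - 1 := hN ▸ Subgroup.card_dvd_of_injective cHom hcinj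
  -- transitivity
  have hNG : 2 ^ n - 1 ∣ Nat.card H := by
    obtain ⟨x0, hx0⟩ := exists_ne (1 : M)
    letI : MulAction H {x : M // x ≠ 1} :=
      { smul := fun h x => ⟨(h : MulAut M) x.1, fun e => x.2 ((h : MulAut M).map_eq_one_iff.1 e)⟩
        one_smul := fun x => Subtype.ext rfl
        mul_smul := fun a b x => Subtype.ext rfl }
    haveI : MulAction.IsPretransitive H {x : M // x ≠ 1} := ⟨fun x y => by
      obtain ⟨g, hg⟩ := htr x.1 y.1 x.2 y.2
      exact ⟨⟨φ g, g, rfl⟩, Subtype.ext hg⟩⟩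
    have hidx := MulAction.index_stabilizer_of_transitive H (⟨x0, hx0⟩ : {x : M // x ≠ 1})
    have hcnt : Nat.card {x : M // x ≠ 1} = 2 ^ n - 1 := by
      haveI := Fintype.ofFinite M
      rw [Nat.card_eq_fintype_card, Fintype.card_subtype_compl, Fintype.card_subtype_eq,
        Fintype.card_congr E, hcardF]
    rw [hcnt] at hidx
    exact hidx ▸ Subgroup.index_dvd_card _
  obtain ⟨d, hd⟩ := hcardL
  have hLpos : 0 < Nat.card ψ.ker := Nat.card_pos
  have hdn : d ∣ n := by
    have h1 : Nat.card ψ.range ∣ n := hcardA ▸ Subgroup.card_subgroup_dvd_card _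
    have h2 : Nat.card H = Nat.card ψ.ker * Nat.card ψ.range := by
      rw [← Nat.card_congr (QuotientGroup.quotientKerEquivRange ψ).toEquiv, mul_comm]
      exact Subgroup.card_eq_card_quotient_mul_card_subgroup _
    rw [h2, hd] at hNG
    exact (Nat.dvd_of_mul_dvd_mul_left hLpos hNG).trans h1
  haveI : IsCyclic ψ.ker := isCyclic_of_injective_ringHom ((Units.coeHom F).comp cHom)
    (fun a b e => hcinj (Units.ext e))
  obtain ⟨h₀, hh₀⟩ := IsCyclic.exists_generator (α := ψ.ker)
  obtain ⟨g₀, hg₀, -⟩ := hψ (h₀ : H)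
  have hord : orderOf ((c h₀ : Fˣ) : F) = Nat.card ψ.ker := by
    rw [orderOf_units, show c h₀ = cHom h₀ from rfl, orderOf_injective cHom hcinj,
      orderOf_eq_card_of_forall_mem_zpowers hh₀]
  set ω : F := ((c h₀ : Fˣ) : F) with hωdef
  have hω0 : ω ≠ 0 := Units.ne_zero _
  have hwrap : ω ^ 2 ^ n = ω := by rw [← hcardF]; exact FiniteField.pow_card ω
  have hm : d * Nat.card ψ.ker = 2 ^ n - 1 := by rw [hd, mul_comm]
  have hmod : ∀ {A B : ℕ}, ω ^ A = ω ^ B → A ≡ B [MOD Nat.card ψ.ker] := by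
    intro A B h
    rw [← hord]
    have h' : c h₀ ^ A = c h₀ ^ B := Units.ext (by simpa using h)
    rw [hωdef, orderOf_units]
    exact pow_eq_pow_iff_modEq.1 h'
  have heq_aut : ∀ {σ τ : F ≃+* F} {s t : ℕ}, (∀ x, σ x = x ^ 2 ^ s) → (∀ x, τ x = x ^ 2 ^ t) →
      s = t → σ = τ := fun hs ht e => RingEquiv.ext fun x => by rw [hs, ht, e]
  refine ⟨F, hF1, hF2, hchar, E, g₀, ω, hadd, hω0, fun x => ?_, ?_, ?_, ?_, fun g => ?_⟩
  · rw [hg₀]; exact hc h₀ x
  · intro σ τ h
    obtain ⟨s, hs, hσ⟩ := hexp σ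
    obtain ⟨t, ht, hτ⟩ := hexp τ
    have h1 : ω ^ (2 ^ s + 2 ^ t) = ω ^ (2 ^ (n - 1) + 2 ^ (n - 1)) := by
      rw [pow_add, ← hσ, ← hτ, h, ← two_mul, ← pow_succ', show n - 1 + 1 = n by omega, hwrap]
    exact heq_aut hσ hτ ((sums_mod hdn hm hs ht (by omega) (by omega) (hmod h1)).2 rfl)
  · intro σ τ ρ h
    obtain ⟨s, hs, hσ⟩ := hexp σ
    obtain ⟨t, ht, hτ⟩ := hexp τ
    obtain ⟨r, hr, hρ⟩ := hexp ρ
    have hne : ∀ f : F ≃+* F, f ω ≠ 0 := fun f e => hω0 (f.injective (by rw [e, map_zero]))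
    rw [map_div₀, div_eq_div_iff (fun e => hne σ (ρ.injective (by rw [e, map_zero]))) (hne τ)] at h
    have hred : ∀ k, ω ^ 2 ^ k = ω ^ 2 ^ (k % n) := by
      intro k
      have : ∀ q : ℕ, ω ^ (2 ^ n) ^ q = ω := by
        intro q
        induction q with
        | zero => simp
        | succ q ih => rw [pow_succ, pow_mul, ih, hwrap]
      conv_lhs => rw [← Nat.div_add_mod k n, pow_add, pow_mul 2 n, pow_mul, this]
    have h1 : ω ^ (2 ^ r + 2 ^ t) = ω ^ (2 ^ 0 + 2 ^ ((s + r) % n)) := by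
      rw [pow_add, ← hρ, ← hτ, h, pow_add, pow_zero, pow_one, hρ, hσ, ← pow_mul, ← pow_add, hred]
    have h2 := (sums_mod hdn hm hr ht hn0 (Nat.mod_lt _ hn0) (hmod h1)).1
    rw [zero_add, Nat.mod_mod, add_comm r t] at h2
    have h3 : t + r ≡ s + r [MOD n] := h2
    exact heq_aut hσ hτ ((Nat.ModEq.eq_of_lt_of_lt (Nat.ModEq.add_right_cancel' r h3) ht hs).symm)
  · intro hcard h1
    rw [h1, orderOf_one] at hord
    rw [← hord, mul_one] at hm
    rw [Nat.card_eq_fintype_card, hcardF] at hcard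
    have hn2 : 2 ≤ n := by
      by_contra hlt
      have : n = 1 := by omega
      subst this
      norm_num at hcard
    have h2 : n + 1 < 2 ^ n := by
      clear * - hn2
      induction n, hn2 using Nat.le_induction with
      | base => norm_num
      | succ n hn ih => rw [pow_succ]; omega
    have h3 := Nat.le_of_dvd hn0 hdn
    omega
  · exact ⟨(p g).1, Units.ne_zero _, (p g).2, hp g⟩

end CfsgLib.Recog.SuzukiSolv
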