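import Mathlib
import Cfsg.Agent.Recog.SingerField
import Cfsg.Agent.Recog.SuzukiSolvable.Field

/-!
A nonabelian 2-group with a solvable group of automorphisms transitive on involutions has elementary
abelian centre, consisting of the involutions.
-/

set_option autoImplicit false
set_option linter.unusedSectionVars false
set_option linter.style.haveILetI false

namespace CfsgLib.Recog.SuzukiSolv

open Subgroup
open scoped commutatorElement

/-- A solvable group of automorphisms transitive on the involutions. -/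
def Trans {P : Type*} [Group P] (Y : Subgroup (MulAut P)) : Prop :=
  Group.IsSolvable Y ∧ ∀ x y : P, x ≠ 1 → x * x = 1 → y ≠ 1 → y * y = 1 → ∃ g ∈ Y, g x = y

/-- No nonzero alternating biadditive map is scaled by a large multiplier. -/
theorem alternating_zero {F : Type*} [Field F] [Fintype F] [CharP F 2] {ω : F}
    (hH1 : ∀ σ τ : F ≃+* F, σ ω * τ ω = ω → σ = τ)
    (hH2 : ∀ σ τ ρ : F ≃+* F, ρ (ω / σ ω) = ω / τ ω → σ = τ)
    (B : F →+ F →+ F) (hB : ∀ x y, B (ω * x) (ω * y) = ω * B x y) (halt : ∀ x, B x x = 0) :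
    B = 0 := by
  classical
  haveI : Finite (F ≃+* F) := Finite.of_injective _ DFunLike.coe_injective
  letI := Fintype.ofFinite (F ≃+* F)
  obtain ⟨d, hd⟩ := FieldSpan.exists_biadditive B
  have key : ∀ σ τ, d σ τ ≠ 0 → σ = τ ∧ σ ω * σ ω = ω := by
    intro σ τ hne
    have h := SingerField.coeff_scale hd hB σ τ hne
    obtain rfl := hH1 σ τ h
    exact ⟨rfl, h⟩
  have huniq : ∀ σ τ σ' τ', d σ τ ≠ 0 → d σ' τ' ≠ 0 → (σ, τ) = (σ', τ') := by
    intro σ τ σ' τ' h h'
    obtain ⟨rfl, hx⟩ := key σ τ h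
    obtain ⟨rfl, hx'⟩ := key σ' τ' h'
    have : σ = σ' := hH2 σ σ' 1 (by
      rw [RingAut.one_apply]
      rcases mul_self_eq_mul_self_iff.1 (hx.trans hx'.symm) with e | e
      · rw [e]
      · rw [e, CharTwo.neg_eq])
    rw [this]
  have hd0 : ∀ σ τ, d σ τ = 0 := by
    intro σ τ
    by_contra hne
    have h1 := halt 1
    rw [hd, ← Finset.sum_product', Finset.sum_eq_single (σ, τ)] at h1
    · simp only [map_one, mul_one] at h1; exact hne h1
    · intro p _ hp
      by_contra hc
      exact hp (huniq p.1 p.2 σ τ (left_ne_zero_of_mul hc) hne)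
    · simp
  refine AddMonoidHom.ext fun x => AddMonoidHom.ext fun y => ?_
  rw [hd]
  simp [hd0]

variable {P : Type*} [Group P]

theorem map_center (β : MulAut P) {z : P} (hz : z ∈ center P) : β z ∈ center P :=
  mem_center_iff.2 fun g => by
    obtain ⟨g, rfl⟩ := β.surjective g
    rw [← map_mul, ← map_mul, mem_center_iff.1 hz g]

theorem mul_inv_sq {x w : P} (hw : w ∈ center P) (h : w * w = x * x) :
    (x * w⁻¹) * (x * w⁻¹) = 1 := by
  have hc := mem_center_iff.1 (inv_mem hw)
  calc (x * w⁻¹) * (x * w⁻¹) = x * (w⁻¹ * x) * w⁻¹ := by group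
    _ = x * (x * w⁻¹) * w⁻¹ := by rw [hc x]
    _ = (x * x) * (w * w)⁻¹ := by group
    _ = 1 := by rw [h, mul_inv_cancel]

variable [Finite P] (hP : IsPGroup 2 P) {Y : Subgroup (MulAut P)} (hα : Trans Y)
include hP hα

theorem invol_central {x : P} (hx : x * x = 1) : x ∈ center P := by
  haveI : Fact (Nat.Prime 2) := ⟨Nat.prime_two⟩
  by_cases h1 : x = 1
  · rw [h1]; exact one_mem _
  haveI : Nontrivial P := ⟨x, 1, h1⟩
  haveI := hP.center_nontrivial
  obtain ⟨n, hn⟩ := (hP.to_subgroup (center P)).exists_card_eq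
  have h2 : 2 ∣ Nat.card (center P) := by
    rw [hn]
    refine dvd_pow_self 2 fun h => ?_
    rw [h, pow_zero] at hn
    exact (Finite.one_lt_card (α := center P)).ne' hn
  obtain ⟨z, hz⟩ := exists_prime_orderOf_dvd_card' 2 h2
  obtain ⟨hz2, hz1⟩ := orderOf_eq_prime_iff.1 hz
  obtain ⟨g, -, rfl⟩ := hα.2 (z : P) x (fun h => hz1 (Subtype.ext h))
    (by rw [← sq, ← Subgroup.coe_pow, hz2, Subgroup.coe_one]) h1 hx
  exact map_center _ z.2

/-- The involutions and the identity. -/
def invol : Subgroup P where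
  carrier := {x | x * x = 1}
  one_mem' := one_mul 1
  mul_mem' := fun {x y} hx hy => by
    simp only [Set.mem_ofPred_eq] at hx hy ⊢
    rw [mul_assoc, ← mul_assoc y x y, mem_center_iff.1 (invol_central hP hα hx) y, mul_assoc x y y,
      hy, mul_one, hx]
  inv_mem' := fun {x} hx => by
    simp only [Set.mem_ofPred_eq] at hx ⊢
    rw [← mul_inv_rev, hx, inv_one]

theorem mem_invol {x : P} : x ∈ invol hP hα ↔ x * x = 1 := Iff.rfl

theorem invol_normal : (invol hP hα).Normal :=
  ⟨fun x hx g => by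
    rw [mem_center_iff.1 (invol_central hP hα hx) g, mul_assoc, mul_inv_cancel, mul_one]; exact hx⟩

theorem invol_char (β : MulAut P) : (invol hP hα).map (β : P →* P) = invol hP hα := by
  ext x
  constructor
  · rintro ⟨y, hy, rfl⟩
    show β y * β y = 1
    rw [← map_mul, show y * y = 1 from hy, map_one]
  · intro hx
    exact ⟨β.symm x, by show β.symm x * β.symm x = 1; rw [← map_mul, show x * x = 1 from hx, map_one],
      β.apply_symm_apply x⟩

/-- The restriction of the automorphisms to the involutions. -/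
noncomputable def res : Y →* MulAut (invol hP hα) := MonoidHom.mk'
  (fun g => (((g : MulAut P)).subgroupMap (invol hP hα)).trans
    (MulEquiv.subgroupCongr (invol_char hP hα (g : MulAut P))))
  fun g h => MulEquiv.ext fun v => Subtype.ext rfl

theorem res_apply (g : Y) (v : invol hP hα) : ((res hP hα g v : invol hP hα) : P) = (g : MulAut P) v := rfl

/-- Field coordinates on the involutions. -/
theorem setup [Nontrivial (invol hP hα)] :
    ∃ (F : Type) (_ : Field F) (_ : Fintype F) (_ : CharP F 2) (E : invol hP hα ≃ F) (g₀ : Y) (ω : F),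
      (∀ x y, E (x * y) = E x + E y) ∧ ω ≠ 0 ∧ (∀ x, E (res hP hα g₀ x) = ω * E x) ∧
        (∀ σ τ : F ≃+* F, σ ω * τ ω = ω → σ = τ) ∧
        (∀ σ τ ρ : F ≃+* F, ρ (ω / σ ω) = ω / τ ω → σ = τ) ∧
        (2 < Nat.card F → ω ≠ 1) ∧
        ∀ g : Y, ∃ a : F, a ≠ 0 ∧ ∃ ρ : F ≃+* F, ∀ x, E (res hP hα g x) = a * ρ (E x) := by
  haveI := hα.1
  refine field_main (fun v => Subtype.ext v.2) (res hP hα) fun u v hu hv => ?_
  obtain ⟨g, hg, hi⟩ := hα.2 u v (fun e => hu (Subtype.ext e)) u.2 (fun e => hv (Subtype.ext e)) v.2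
  exact ⟨⟨g, hg⟩, Subtype.ext hi⟩

/-- The case that the commutators are involutions. -/
theorem abelian_case {N : ℕ} (hN : ∀ z ∈ center P, z ^ 2 ^ N = 1) (hN2 : 2 ≤ N)
    (hNmin : ∃ z ∈ center P, z ^ 2 ^ (N - 1) ≠ 1)
    (hsq : ∀ x : P, x * x ∈ center P) (hcomm : ∀ x y : P, ⁅x, y⁆ * ⁅x, y⁆ = 1) :
    ∀ x y : P, x * y = y * x := by
  classical
  obtain ⟨e, rfl⟩ : ∃ e, N = e + 2 := ⟨N - 2, by omega⟩
  have hc : ∀ x y : P, ⁅x, y⁆ ∈ center P := fun x y => invol_central hP hα (hcomm x y)
  -- every involution is a high power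
  have hdiv : ∀ t : P, t * t = 1 → ∃ w ∈ center P, w ^ 2 ^ (e + 1) = t := by
    obtain ⟨z, hz, hz1⟩ := hNmin
    intro t ht
    by_cases h1 : t = 1
    · exact ⟨1, one_mem _, by rw [one_pow, h1]⟩
    obtain ⟨g, -, hi⟩ := hα.2 (z ^ 2 ^ (e + 1)) t hz1
      (by rw [← sq, ← pow_mul, ← pow_succ]; exact hN z hz) h1 ht
    exact ⟨g z, map_center _ hz, by rw [← map_pow, hi]⟩
  have hsquare : ∀ j ≤ e + 1, ∀ z ∈ center P, z ^ 2 ^ j = 1 → ∃ w ∈ center P, w * w = z := by
    intro j
    induction j with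
    | zero => intro _ z _ h; exact ⟨1, one_mem _, by rw [mul_one, ← h, pow_zero, pow_one]⟩
    | succ j ih =>
      intro hj z hz h
      obtain ⟨d, hd⟩ := Nat.exists_eq_add_of_le (show j + 1 ≤ e + 1 from hj)
      obtain ⟨w, hw, hwe⟩ := hdiv (z ^ 2 ^ j) (by rw [← sq, ← pow_mul, ← pow_succ]; exact h)
      have hcz : ∀ g, Commute z g := fun g => (mem_center_iff.1 hz g).symm
      set v := w ^ 2 ^ d with hv
      have hvv : (v * v) ^ 2 ^ j = z ^ 2 ^ j := by
        rw [← hwe, hd, ← sq, hv, ← pow_mul, ← pow_mul]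
        congr 1
        ring
      have hvc : v ∈ center P := pow_mem hw _
      obtain ⟨u, hu, hue⟩ := ih (by omega) (z * (v * v)⁻¹) (mul_mem hz (inv_mem (mul_mem hvc hvc)))
        (by rw [(hcz _).mul_pow, inv_pow, hvv, mul_inv_cancel])
      refine ⟨u * v, mul_mem hu hvc, ?_⟩
      rw [mul_assoc, ← mul_assoc v u v, mem_center_iff.1 hu v, mul_assoc u v v, ← mul_assoc, hue,
        inv_mul_cancel_right]
  have hswap : ∀ x y : P, y * x = x * y * ⁅y⁻¹, x⁻¹⁆ := fun x y => by
    rw [commutatorElement_def]; group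
  -- the power map
  let h : P →* invol hP hα :=
    MonoidHom.mk' (fun x => ⟨x ^ 2 ^ (e + 2), by
      show _ * _ = 1
      rw [pow_succ' 2 (e + 1), pow_mul, ← sq, ← pow_mul, ← pow_succ, sq]
      exact hN _ (hsq x)⟩) fun x y => Subtype.ext <| by
      show (x * y) ^ 2 ^ (e + 2) = x ^ 2 ^ (e + 2) * y ^ 2 ^ (e + 2)
      set c := ⁅y⁻¹, x⁻¹⁆ with hcdef
      have hcc : ∀ g, Commute c g := fun g => (mem_center_iff.1 (hc _ _) g).symm
      have e1 : (x * y) ^ 2 = x ^ 2 * y ^ 2 * c := by
        calc (x * y) ^ 2 = x * (y * x) * y := by rw [sq]; group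
          _ = x * (x * y * c) * y := by rw [hswap x y]
          _ = x ^ 2 * y * (c * y) := by rw [sq]; group
          _ = x ^ 2 * y * (y * c) := by rw [(hcc y).eq]
          _ = _ := by rw [sq y]; group
      have hx2 : Commute (x ^ 2) (y ^ 2) := by
        rw [sq x]; exact (mem_center_iff.1 (hsq x) _).symm
      rw [pow_succ' 2 (e + 1), pow_mul, pow_mul, pow_mul, e1, (hcc _).symm.mul_pow, hx2.mul_pow,
        pow_succ' 2 e, pow_mul c, sq c, hcomm, one_pow, mul_one]
  have hval : ∀ x, (h x : P) = x ^ 2 ^ (e + 2) := fun x => rfl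
  have hker : ∀ x, h x = 1 → x ∈ center P := by
    intro x hx
    have := congrArg Subtype.val hx
    rw [hval, Subgroup.coe_one, pow_succ' 2 (e + 1), pow_mul, sq] at this
    obtain ⟨w, hw, hwe⟩ := hsquare (e + 1) le_rfl (x * x) (hsq x) this
    have : x * w⁻¹ ∈ center P := invol_central hP hα (mul_inv_sq hw hwe)
    simpa using mul_mem this hw
  have hwd : ∀ x x' : P, h x = h x' → x⁻¹ * x' ∈ center P := fun x x' he =>
    hker _ (by rw [map_mul, map_inv, he, inv_mul_cancel])
  by_contra hne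
  push Not at hne
  obtain ⟨x1, y1, hxy⟩ := hne
  have hx1 : h x1 ≠ 1 := fun hh => hxy (mem_center_iff.1 (hker _ hh) y1).symm
  haveI : Nontrivial (invol hP hα) := ⟨h x1, 1, hx1⟩
  obtain ⟨F, _, _, _, E, g₀, ω, hadd, -, hω, hH1, hH2, -, -⟩ := setup hP hα
  set α : MulAut P := (g₀ : MulAut P) with hαdef
  have hαh : ∀ (g : MulAut P) x, (h (g x) : P) = g (h x : P) := fun g x => by
    rw [hval, hval, map_pow]
  have hsurj : ∀ v, ∃ x, h x = v := fun v => by
    by_cases hv : v = 1
    · exact ⟨1, by rw [map_one, hv]⟩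
    · obtain ⟨g, -, hi⟩ := hα.2 (h x1) v (fun e => hx1 (Subtype.ext e)) (h x1).2
        (fun e => hv (Subtype.ext e)) v.2
      exact ⟨g x1, Subtype.ext ((hαh g x1).trans hi)⟩
  choose s hs using hsurj
  have hcz : ∀ x x' y : P, x⁻¹ * x' ∈ center P → ⁅x', y⁆ = ⁅x, y⁆ := by
    intro x x' y hz
    have hz' := mem_center_iff.1 hz
    calc ⁅x', y⁆ = x * ((x⁻¹ * x') * y) * (x⁻¹ * x')⁻¹ * x⁻¹ * y⁻¹ := by
          rw [commutatorElement_def]; group
      _ = x * (y * (x⁻¹ * x')) * (x⁻¹ * x')⁻¹ * x⁻¹ * y⁻¹ := by rw [hz' y]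
      _ = _ := by rw [commutatorElement_def]; group
  have hcwd : ∀ x x' y y' : P, h x = h x' → h y = h y' → ⁅x', y'⁆ = ⁅x, y⁆ := by
    intro x x' y y' hx hy
    rw [hcz x x' y' (hwd _ _ hx), ← commutatorElement_inv y' x, hcz y y' x (hwd _ _ hy),
      commutatorElement_inv]
  let β : P → P → invol hP hα := fun x y => ⟨⁅x, y⁆, hcomm x y⟩
  have hβl : ∀ x x' y, β (x * x') y = β x y * β x' y := fun x x' y => Subtype.ext <| by
    show ⁅x * x', y⁆ = ⁅x, y⁆ * ⁅x', y⁆
    calc ⁅x * x', y⁆ = x * ⁅x', y⁆ * (y * x⁻¹ * y⁻¹) := by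
          rw [commutatorElement_def, commutatorElement_def]; group
      _ = ⁅x', y⁆ * x * (y * x⁻¹ * y⁻¹) := by rw [mem_center_iff.1 (hc x' y) x]
      _ = ⁅x', y⁆ * ⁅x, y⁆ := by rw [commutatorElement_def x y]; group
      _ = _ := (mem_center_iff.1 (hc x' y) _).symm
  have hsadd : ∀ a b : F, h (s (E.symm a) * s (E.symm b)) = h (s (E.symm (a + b))) := fun a b => by
    rw [map_mul, hs, hs, hs]
    exact E.injective (by rw [hadd, Equiv.apply_symm_apply, Equiv.apply_symm_apply, Equiv.apply_symm_apply])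
  have hE1 : E 1 = 0 := by have := hadd 1 1; rw [mul_one] at this; exact left_eq_add.1 this
  let f : F → F → F := fun a b => E (β (s (E.symm a)) (s (E.symm b)))
  have hfl : ∀ a a' b, f (a + a') b = f a b + f a' b := fun a a' b => by
    show E _ = E _ + E _
    rw [← hadd, ← hβl]
    exact congrArg E (Subtype.ext (hcwd _ _ _ _ (hsadd a a') rfl))
  have hfs : ∀ a b, f a b = f b a := fun a b => congrArg E (Subtype.ext (by
    show ⁅_, _⁆ = ⁅_, _⁆
    rw [← commutatorElement_inv]
    exact inv_eq_of_mul_eq_one_right (hcomm _ _)))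
  let B : F →+ F →+ F := AddMonoidHom.mk'
    (fun a => AddMonoidHom.mk' (f a) fun b b' => by rw [hfs, hfl, hfs b, hfs b']) fun a a' =>
      AddMonoidHom.ext fun b => hfl a a' b
  have hseq : ∀ c : F, h (α (s (E.symm c))) = h (s (E.symm (ω * c))) := fun c => by
    rw [hs]
    apply E.injective
    rw [Equiv.apply_symm_apply]
    have h1 : h (α (s (E.symm c))) = res hP hα g₀ (E.symm c) := Subtype.ext (by
      have h2 := hαh α (s (E.symm c))
      rw [hs] at h2
      exact h2)
    rw [h1, hω, Equiv.apply_symm_apply]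
  have hB0 : B = 0 := alternating_zero hH1 hH2 B (fun a b => by
      show f _ _ = ω * f a b
      rw [← hω]
      refine congrArg E (Subtype.ext ?_)
      show ⁅_, _⁆ = α ⁅_, _⁆
      rw [map_commutatorElement]
      exact hcwd _ _ _ _ (hseq a) (hseq b)) fun a => by
      show E _ = 0
      rw [← hE1]
      exact congrArg E (Subtype.ext (commutatorElement_self _))
  refine hxy (commutatorElement_eq_one_iff_mul_comm.1 ?_)
  have := DFunLike.congr_fun (DFunLike.congr_fun hB0 (E (h x1))) (E (h y1))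
  change E _ = 0 at this
  rw [← hE1] at this
  have h2 := congrArg Subtype.val (E.injective this)
  simp only [Subgroup.coe_one, Equiv.symm_apply_apply] at h2
  exact (hcwd _ _ _ _ (hs _) (hs _)).trans h2

theorem center_sq (hne : ∃ x y : P, x * y ≠ y * x) : ∀ z ∈ center P, z * z = 1 := by
  induction hn : Nat.card P using Nat.strong_induction_on generalizing P with
  | _ n ih =>
    subst hn
    classical
    haveI : Fact (Nat.Prime 2) := ⟨Nat.prime_two⟩
    by_contra hz
    push Not at hz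
    obtain ⟨z0, hz0, hz01⟩ := hz
    have hexp : ∃ N, ∀ z ∈ center P, z ^ 2 ^ N = 1 := by
      obtain ⟨N, hN⟩ := hP.exists_card_eq
      exact ⟨N, fun z _ => by rw [← hN]; exact pow_card_eq_one'⟩
    have hN := Nat.find_spec hexp
    have hN2 : 2 ≤ Nat.find hexp := by
      by_contra hlt
      rcases (show Nat.find hexp = 0 ∨ Nat.find hexp = 1 by omega) with e | e <;>
        · have := hN z0 hz0
          rw [e] at this
          simp [sq] at this
          exact hz01 (by simp [this])
    have hNmin : ∃ z ∈ center P, z ^ 2 ^ (Nat.find hexp - 1) ≠ 1 := by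
      by_contra hc
      push Not at hc
      have := Nat.find_min' hexp hc
      omega
    haveI := invol_normal hP hα
    set E := invol hP hα with hEdef
    let π := QuotientGroup.mk' E
    have hπ : ∀ {x : P}, π x = 1 ↔ x * x = 1 := fun {x} => QuotientGroup.eq_one_iff x
    -- involutions of the quotient
    have hdiv : ∀ t : P, t * t = 1 → ∃ w ∈ center P, w * w = t := by
      obtain ⟨z, hz, hz1⟩ := hNmin
      intro t ht
      by_cases h1 : t = 1
      · exact ⟨1, one_mem _, by rw [mul_one, h1]⟩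
      obtain ⟨g, -, hi⟩ := hα.2 (z ^ 2 ^ (Nat.find hexp - 1)) t hz1 (by
        rw [← sq, ← pow_mul, ← pow_succ, Nat.sub_add_cancel (by omega)]; exact hN z hz) h1 ht
      refine ⟨g (z ^ 2 ^ (Nat.find hexp - 2)), map_center _ (pow_mem hz _), ?_⟩
      rw [← map_mul, ← sq, ← pow_mul, ← pow_succ,
        show Nat.find hexp - 2 + 1 = Nat.find hexp - 1 by omega, hi]
    have hinv : ∀ x : P, (x * x) * (x * x) = 1 → x ∈ center P := fun x hx => by
      obtain ⟨w, hw, hwe⟩ := hdiv _ hx
      have : x * w⁻¹ ∈ center P := invol_central hP hα (mul_inv_sq hw hwe)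
      simpa using mul_mem this hw
    have hcinv : ∀ x : P, x * x ∈ center P → ∀ y : P, ⁅x, y⁆ ∈ center P → ⁅x, y⁆ * ⁅x, y⁆ = 1 := by
      intro x hx y hxy
      calc ⁅x, y⁆ * ⁅x, y⁆ = x * y * x⁻¹ * y⁻¹ * ⁅x, y⁆ := by rw [commutatorElement_def x y]
        _ = x * y * x⁻¹ * ⁅x, y⁆ * y⁻¹ := by
          rw [mul_assoc _ y⁻¹, mem_center_iff.1 hxy y⁻¹, ← mul_assoc]
        _ = x * ⁅x, y⁆ * y * x⁻¹ * y⁻¹ := by
          rw [mul_assoc (x * y), mem_center_iff.1 hxy x⁻¹, mul_assoc x y, ← mul_assoc y,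
            mem_center_iff.1 hxy y]
          group
        _ = (x * x) * y * (x * x)⁻¹ * y⁻¹ := by rw [commutatorElement_def]; group
        _ = 1 := by rw [← mem_center_iff.1 hx y]; group
    by_cases hab : ∀ a b : P ⧸ E, a * b = b * a
    · have hcomm : ∀ x y : P, ⁅x, y⁆ * ⁅x, y⁆ = 1 := fun x y => hπ.1 (by
        rw [map_commutatorElement]; exact commutatorElement_eq_one_iff_mul_comm.2 (hab _ _))
      have hsq : ∀ x : P, x * x ∈ center P := fun x => mem_center_iff.2 fun y => by
        have hc := fun a b => mem_center_iff.1 (invol_central hP hα (hcomm a b))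
        have h2 : ⁅x * x, y⁆ = 1 := by
          calc ⁅x * x, y⁆ = x * ⁅x, y⁆ * (y * x⁻¹ * y⁻¹) := by
                rw [commutatorElement_def, commutatorElement_def]; group
            _ = ⁅x, y⁆ * x * (y * x⁻¹ * y⁻¹) := by rw [hc x y x]
            _ = ⁅x, y⁆ * ⁅x, y⁆ := by rw [commutatorElement_def]; group
            _ = 1 := hcomm x y
        exact (commutatorElement_eq_one_iff_mul_comm.1 h2).symm
      obtain ⟨x, y, hxy⟩ := hne
      exact hxy (abelian_case hP hα hN hN2 hNmin hsq hcomm x y)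
    · push Not at hab
      -- a noncentral element of the second centre with central square
      haveI : Nontrivial (P ⧸ center P) := by
        obtain ⟨x, y, hxy⟩ := hne
        exact ⟨QuotientGroup.mk x, 1, fun e => hxy
          (mem_center_iff.1 ((QuotientGroup.eq_one_iff x).1 e) y).symm⟩
      have hQ : IsPGroup 2 (P ⧸ center P) := hP.to_quotient _
      haveI := hQ.center_nontrivial
      obtain ⟨m, hm⟩ := (hQ.to_subgroup (center (P ⧸ center P))).exists_card_eq
      have h2 : 2 ∣ Nat.card (center (P ⧸ center P)) := by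
        rw [hm]
        refine dvd_pow_self 2 fun h => ?_
        rw [h, pow_zero] at hm
        exact (Finite.one_lt_card (α := center (P ⧸ center P))).ne' hm
      obtain ⟨q, hq⟩ := exists_prime_orderOf_dvd_card' 2 h2
      obtain ⟨hq2, hq1⟩ := orderOf_eq_prime_iff.1 hq
      obtain ⟨x, hx⟩ := QuotientGroup.mk_surjective (q : P ⧸ center P)
      have hxn : x ∉ center P := fun h => hq1 (Subtype.ext (by
        rw [← hx, (QuotientGroup.eq_one_iff x).2 h, Subgroup.coe_one]))
      have hxx : x * x ∈ center P := (QuotientGroup.eq_one_iff _).1 (by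
        rw [QuotientGroup.mk_mul, hx, ← sq, ← Subgroup.coe_pow, hq2, Subgroup.coe_one])
      have hxc : π x ∈ center (P ⧸ E) := mem_center_iff.2 fun b => by
        obtain ⟨y, rfl⟩ := QuotientGroup.mk'_surjective E b
        have hxy : ⁅x, y⁆ ∈ center P := (QuotientGroup.eq_one_iff _).1 (by
          show QuotientGroup.mk' (center P) ⁅x, y⁆ = 1
          rw [map_commutatorElement, commutatorElement_eq_one_iff_mul_comm]
          exact (mem_center_iff.1 (by rw [QuotientGroup.mk'_apply, hx]; exact q.2) _).symm)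
        have := (hπ (x := ⁅x, y⁆)).2 (hcinv x hxx y hxy)
        rw [map_commutatorElement, commutatorElement_eq_one_iff_mul_comm] at this
        exact this.symm
      let q : Y →* MulAut (P ⧸ E) := MonoidHom.mk'
        (fun g => QuotientGroup.congr E E (g : MulAut P) (invol_char hP hα (g : MulAut P)))
        fun g g' => MulEquiv.ext fun v => by
          obtain ⟨v, rfl⟩ := QuotientGroup.mk_surjective v
          rfl
      have hαbar : Trans q.range := by
        haveI := hα.1
        refine ⟨Group.isSolvable_of_surjective q.rangeRestrict_surjective, fun a b ha ha2 hb hb2 => ?_⟩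
        obtain ⟨a, rfl⟩ := QuotientGroup.mk_surjective a
        obtain ⟨b, rfl⟩ := QuotientGroup.mk_surjective b
        have ha' : (a * a) * (a * a) = 1 := (QuotientGroup.eq_one_iff _).1 ha2
        have hb' : (b * b) * (b * b) = 1 := (QuotientGroup.eq_one_iff _).1 hb2
        obtain ⟨g, hg, hi⟩ := hα.2 (a * a) (b * b) (fun h => ha ((QuotientGroup.eq_one_iff a).2 h)) ha'
          (fun h => hb ((QuotientGroup.eq_one_iff b).2 h)) hb'
        refine ⟨q ⟨g, hg⟩, ⟨_, rfl⟩, ?_⟩
        show (QuotientGroup.mk (g a) : P ⧸ E) = QuotientGroup.mk b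
        rw [QuotientGroup.eq]
        show _ * _ = (1 : P)
        rw [map_mul] at hi
        have hac := mem_center_iff.1 (map_center g (hinv a ha'))
        have hbc := mem_center_iff.1 (hinv b hb')
        set c := g a
        calc c⁻¹ * b * (c⁻¹ * b) = c⁻¹ * c⁻¹ * (b * b) := by
              rw [mul_assoc c⁻¹ b, ← mul_assoc b, ← hbc c⁻¹]; group
          _ = (c * c)⁻¹ * (b * b) := by rw [mul_inv_rev]
          _ = 1 := by rw [hi, inv_mul_cancel]
      have hlt : Nat.card (P ⧸ E) < Nat.card P := by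
        have h1 := Subgroup.card_eq_card_quotient_mul_card_subgroup E
        have hE : 1 < Nat.card E := by
          obtain ⟨z, hz, hz1⟩ := hNmin
          have hmem : z ^ 2 ^ (Nat.find hexp - 1) ∈ E := by
            show _ * _ = (1 : P)
            rw [← sq, ← pow_mul, ← pow_succ, Nat.sub_add_cancel (by omega)]; exact hN z hz
          exact Finite.one_lt_card_iff_nontrivial.2 ⟨⟨_, hmem⟩, 1, fun e => hz1 (congrArg Subtype.val e)⟩
        rw [h1]
        exact lt_mul_of_one_lt_right Nat.card_pos hE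
      have := ih _ hlt (hP.to_quotient E) hαbar hab rfl _ hxc
      rw [← map_mul, hπ] at this
      exact hxn (hinv x this)

theorem center_iff (hne : ∃ x y : P, x * y ≠ y * x) {x : P} : x ∈ center P ↔ x * x = 1 :=
  ⟨center_sq hP hα hne x, invol_central hP hα⟩

end CfsgLib.Recog.SuzukiSolv

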