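import Mathlib
import Cfsg.Agent.Recog.SuzukiHigman
import Cfsg.Agent.Recog.SuzukiSolvable.Center

/-!
Higman's theorem for a solvable group of automorphisms transitive on involutions: the group has
class two and squares are central. The proof follows the action of the third term of the upper
central series on the second one; a large multiplication replaces the generator of the field.
-/

set_option autoImplicit false
set_option linter.unusedSectionVars false
set_option linter.style.haveILetI false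

namespace CfsgLib.Recog.SuzukiSolv

open Subgroup Polynomial
open scoped commutatorElement

open CfsgLib.Recog.SuzukiTwo (comm_sq_left comm_sq_left' comm_sq_right map_upper center_le_upper upper_step comb_single fixed_field_small)

variable {P : Type*} [Group P]

variable [Finite P] (hP : IsPGroup 2 P) {Y : Subgroup (MulAut P)} (hα : Trans Y)
include hP hα

theorem upper_sq : ∀ (j : ℕ) {x : P}, x ∈ Subgroup.upperCentralSeries P (j + 1) →
    (∃ a b : P, a * b ≠ b * a) → x * x ∈ Subgroup.upperCentralSeries P j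
  | 0, x, hx, hne => by
      rw [Subgroup.upperCentralSeries_one] at hx
      rw [Subgroup.upperCentralSeries_zero, Subgroup.mem_bot]
      exact center_sq hP hα hne x hx
  | j + 1, x, hx, hne => Subgroup.mem_upperCentralSeries_succ_iff.2 fun y => by
      have hc := Subgroup.mem_upperCentralSeries_succ_iff.1 hx y
      have e := comm_sq_left x y
      rw [e]
      exact mul_mem (inv_mem (Subgroup.mem_upperCentralSeries_succ_iff.1 hc x)) (upper_sq j hc hne)

/-- An invariant nonabelian subgroup has centre consisting of involutions. -/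
theorem sq_one_of_central_in (H : Subgroup P) (hH : ∀ g ∈ Y, ∀ x ∈ H, g x ∈ H)
    (hne : ∃ a ∈ H, ∃ b ∈ H, a * b ≠ b * a) {u : P} (hu : u ∈ H) (hc : ∀ h ∈ H, h * u = u * h) :
    u * u = 1 := by
  let q : Y →* MulAut H := MonoidHom.mk'
    (fun g =>
      { toFun := fun x => ⟨(g : MulAut P) x, hH g g.2 x x.2⟩
        invFun := fun x => ⟨((g⁻¹ : Y) : MulAut P) x, hH _ (g⁻¹).2 x x.2⟩
        left_inv := fun x => Subtype.ext ((g : MulAut P).symm_apply_apply x)
        right_inv := fun x => Subtype.ext ((g : MulAut P).apply_symm_apply x)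
        map_mul' := fun x y => Subtype.ext (map_mul (g : MulAut P) (x : P) (y : P)) })
    fun g g' => MulEquiv.ext fun v => Subtype.ext rfl
  have htr : Trans q.range := by
    haveI := hα.1
    refine ⟨Group.isSolvable_of_surjective q.rangeRestrict_surjective, fun x y hx hx2 hy hy2 => ?_⟩
    obtain ⟨g, hg, hi⟩ := hα.2 x y (fun e => hx (Subtype.ext e)) (congrArg Subtype.val hx2)
      (fun e => hy (Subtype.ext e)) (congrArg Subtype.val hy2)
    exact ⟨q ⟨g, hg⟩, ⟨_, rfl⟩, Subtype.ext hi⟩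
  obtain ⟨a, ha, b, hb, hab⟩ := hne
  have := center_sq (hP.to_subgroup H) htr ⟨⟨a, ha⟩, ⟨b, hb⟩, fun e => hab (congrArg Subtype.val e)⟩
    ⟨u, hu⟩ (mem_center_iff.2 fun h => Subtype.ext (hc h h.2))
  exact congrArg Subtype.val this

omit hP hα in
/-- An automorphism fixing no involution fixes only the identity. -/
theorem fixed_eq_one (hP' : IsPGroup 2 P) {α : MulAut P}
    (hfree : ∀ t : P, t * t = 1 → α t = t → t = 1) {x : P} (hx : α x = x) : x = 1 := by
  obtain ⟨k, hk⟩ := hP' x
  induction k with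
  | zero => simpa using hk
  | succ k ih =>
    refine ih (hfree _ ?_ (by rw [map_pow, hx]))
    rw [← sq, ← pow_mul, ← pow_succ]
    exact hk

omit hP hα in
/-- An element moved only inside an invariant subgroup lies in it. -/
theorem mem_of_moved (hP' : IsPGroup 2 P) {α : MulAut P}
    (hfree : ∀ t : P, t * t = 1 → α t = t → t = 1) (M : Subgroup P) (hM : ∀ x ∈ M, α x ∈ M) {x : P}
    (hx : x⁻¹ * α x ∈ M) : x ∈ M := by
  let f : M → M := fun m => ⟨(m : P)⁻¹ * α m, mul_mem (inv_mem m.2) (hM m m.2)⟩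
  have hinj : Function.Injective f := by
    intro m m' h
    have h' : (m : P)⁻¹ * α m = (m' : P)⁻¹ * α m' := congrArg Subtype.val h
    have h'' : α ((m' : P) * (m : P)⁻¹) = (m' : P) * (m : P)⁻¹ := by
      rw [map_mul, map_inv, mul_inv_eq_iff_eq_mul, mul_assoc, h', mul_inv_cancel_left]
    exact Subtype.ext (mul_inv_eq_one.1 (fixed_eq_one hP' hfree h'')).symm
  obtain ⟨m, hm⟩ := Finite.surjective_of_injective hinj ⟨_, hx⟩
  have h' : (m : P)⁻¹ * α m = x⁻¹ * α x := congrArg Subtype.val hm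
  have h'' : α ((m : P) * x⁻¹) = (m : P) * x⁻¹ := by
    rw [map_mul, map_inv, mul_inv_eq_iff_eq_mul, mul_assoc, ← h', mul_inv_cancel_left]
  rw [← mul_inv_eq_one.1 (fixed_eq_one hP' hfree h'')]
  exact m.2

theorem upper_three (hne : ∃ a b : P, a * b ≠ b * a)
    (h2 : ∃ x y : P, x ≠ y ∧ x ≠ 1 ∧ x * x = 1 ∧ y ≠ 1 ∧ y * y = 1) :
    Subgroup.upperCentralSeries P 3 ≤ Subgroup.upperCentralSeries P 2 := by
  classical
  by_contra h32
  obtain ⟨a, ha, ha2⟩ := SetLike.not_le_iff_exists.1 h32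
  -- commutation with the second centre
  have hcent : ∀ c ∈ Subgroup.upperCentralSeries P 2, ∀ x, ⁅c, x⁆ ∈ center P := fun c hc x => by
    rw [← Subgroup.upperCentralSeries_one]
    exact Subgroup.mem_upperCentralSeries_succ_iff.1 hc x
  have hiff : ∀ {z : P}, z ∈ center P ↔ z * z = 1 := center_iff hP hα hne
  have hmulr : ∀ c ∈ Subgroup.upperCentralSeries P 2, ∀ x y : P, ⁅c, x * y⁆ = ⁅c, x⁆ * ⁅c, y⁆ := by
    intro c hc x y
    have : x * ⁅c, y⁆ * x⁻¹ = ⁅c, y⁆ := by
      rw [mem_center_iff.1 (hcent c hc y) x, mul_inv_cancel_right]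
    calc ⁅c, x * y⁆ = ⁅c, x⁆ * (x * ⁅c, y⁆ * x⁻¹) := by simp only [commutatorElement_def]; group
      _ = _ := by rw [this]
  have hmull : ∀ c ∈ Subgroup.upperCentralSeries P 2, ∀ c' ∈ Subgroup.upperCentralSeries P 2, ∀ x : P,
      ⁅c * c', x⁆ = ⁅c, x⁆ * ⁅c', x⁆ := by
    intro c hc c' hc' x
    have : c * ⁅c', x⁆ * c⁻¹ = ⁅c', x⁆ := by
      rw [mem_center_iff.1 (hcent c' hc' x) c, mul_inv_cancel_right]
    calc ⁅c * c', x⁆ = c * ⁅c', x⁆ * c⁻¹ * ⁅c, x⁆ := by simp only [commutatorElement_def]; group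
      _ = ⁅c', x⁆ * ⁅c, x⁆ := by rw [this]
      _ = _ := mem_center_iff.1 (hcent c hc x) _
  -- the second centre is abelian
  have hab2 : ∀ c ∈ Subgroup.upperCentralSeries P 2, ∀ c' ∈ Subgroup.upperCentralSeries P 2, c * c' = c' * c := by
    by_contra hc
    push Not at hc
    obtain ⟨c, hc, c', hc', hcc⟩ := hc
    obtain ⟨y, hy⟩ : ∃ y, ⁅a, y⁆ ∉ Subgroup.upperCentralSeries P 1 := by
      by_contra h; push Not at h; exact ha2 (Subgroup.mem_upperCentralSeries_succ_iff.2 h)
    refine hy ?_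
    rw [Subgroup.upperCentralSeries_one, hiff]
    refine sq_one_of_central_in hP hα _ (fun g _ x hx => map_upper g 2 hx) ⟨c, hc, c', hc', hcc⟩
      (Subgroup.mem_upperCentralSeries_succ_iff.1 ha y) fun h hh => commutatorElement_eq_one_iff_mul_comm.1 ?_
    have hone : ⁅h, (1 : P)⁆ = 1 := commutatorElement_eq_one_iff_mul_comm.2 (by simp)
    have hinv : ∀ x, ⁅h, x⁻¹⁆ = ⁅h, x⁆⁻¹ := fun x =>
      eq_inv_of_mul_eq_one_left (by rw [← hmulr h hh, inv_mul_cancel, hone])
    have hcom := mem_center_iff.1 (hcent h hh a)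
    rw [show ⁅a, y⁆ = a * y * a⁻¹ * y⁻¹ from commutatorElement_def a y, hmulr h hh, hmulr h hh,
      hmulr h hh, hinv, hinv, ← hcom ⁅h, y⁆]
    group
  -- the field
  obtain ⟨u0, v0, huv0, hu0, hu02, hv0ne, hv02⟩ := h2
  have h2 : ∃ x y : P, x ≠ y ∧ x ≠ 1 ∧ x * x = 1 ∧ y ≠ 1 ∧ y * y = 1 :=
    ⟨u0, v0, huv0, hu0, hu02, hv0ne, hv02⟩
  haveI : Nontrivial (invol hP hα) := ⟨⟨u0, hu02⟩, 1, fun e => hu0 (congrArg Subtype.val e)⟩
  obtain ⟨F, _, _, _, E, g₀, ω, hadd, hω0, hω, hH1, hH2, hω1, hsemi⟩ := setup hP hα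
  set α : MulAut P := (g₀ : MulAut P) with hαdef
  let val : P → F := fun x => if h : x * x = 1 then E ⟨x, h⟩ else 0
  have hval : ∀ (x : P) (h : x * x = 1), val x = E ⟨x, h⟩ := fun x h => dif_pos h
  have hvmul : ∀ {x y : P}, x * x = 1 → y * y = 1 → val (x * y) = val x + val y := by
    intro x y hx hy
    rw [hval x hx, hval y hy, ← hadd, hval (x * y) ((invol hP hα).mul_mem hx hy)]
    rfl
  have hE1 : E 1 = 0 := by
    have h := hadd 1 1
    rw [mul_one] at h
    exact left_eq_add.1 h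
  have hv1 : val 1 = 0 := by rw [hval 1 (mul_one 1)]; exact hE1
  have hv0 : ∀ {x : P}, x * x = 1 → val x = 0 → x = 1 := by
    intro x hx h
    rw [hval x hx, ← hE1] at h
    exact congrArg Subtype.val (E.injective h)
  have hvα : ∀ {x : P}, x * x = 1 → val (α x) = ω * val x := by
    intro x hx
    rw [hval x hx, ← hω, hval (α x) (by rw [← map_mul, hx, map_one])]
    rfl
  have hvY : ∀ g ∈ Y, ∃ a : F, a ≠ 0 ∧ ∃ ρ : F ≃+* F, ∀ x : P, x * x = 1 → val (g x) = a * ρ (val x) := by
    intro g hg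
    obtain ⟨a, ha, ρ, h⟩ := hsemi ⟨g, hg⟩
    refine ⟨a, ha, ρ, fun x hx => ?_⟩
    rw [hval x hx, ← h, hval (g x) (by rw [← map_mul, hx, map_one])]
    rfl
  have hvsurj : ∀ z : F, ∃ x : P, x * x = 1 ∧ val x = z := fun z =>
    ⟨_, (E.symm z).2, by rw [hval _ (E.symm z).2]; exact E.apply_symm_apply z⟩
  haveI hchar : CharP F 2 := inferInstance
  haveI : Finite (F ≃+* F) := Finite.of_injective _ DFunLike.coe_injective
  letI := Fintype.ofFinite (F ≃+* F)
  have hmuls : ∀ c ∈ Subgroup.upperCentralSeries P 2, ∀ c' ∈ Subgroup.upperCentralSeries P 2,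
      (c * c') * (c * c') = (c * c) * (c' * c') := fun c hc c' hc' => by
    rw [mul_assoc, ← mul_assoc c' c c', hab2 c' hc' c hc]; group
  have hsq2 : ∀ c ∈ Subgroup.upperCentralSeries P 2, (c * c) * (c * c) = 1 := fun c hc => by
    have := upper_sq hP hα 1 hc hne
    rw [Subgroup.upperCentralSeries_one] at this
    exact hiff.1 this
  have hsqrt : ∀ z : F, ∃ c ∈ Subgroup.upperCentralSeries P 2, val (c * c) = z := by
    obtain ⟨y, hy⟩ : ∃ y, ⁅a, y⁆ ∉ Subgroup.upperCentralSeries P 1 := by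
      by_contra h; push Not at h; exact ha2 (Subgroup.mem_upperCentralSeries_succ_iff.2 h)
    have hc0 := Subgroup.mem_upperCentralSeries_succ_iff.1 ha y
    intro z
    obtain ⟨t, ht, rfl⟩ := hvsurj z
    by_cases h1 : t = 1
    · exact ⟨1, one_mem _, by rw [h1, mul_one]⟩
    obtain ⟨g, -, hi⟩ := hα.2 (⁅a, y⁆ * ⁅a, y⁆) t
      (fun e => hy (by rw [Subgroup.upperCentralSeries_one, hiff]; exact e)) (hsq2 _ hc0) h1 ht
    exact ⟨g ⁅a, y⁆, map_upper _ 2 hc0, by rw [← map_mul, hi]⟩
  choose sr hsr hsrv using hsqrt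
  have hcsq : ∀ c ∈ Subgroup.upperCentralSeries P 2, ∀ x : P, ⁅c, x⁆ * ⁅c, x⁆ = 1 :=
    fun c hc x => hiff.1 (hcent c hc x)
  have hLwd : ∀ x : P, ∀ c ∈ Subgroup.upperCentralSeries P 2, ∀ c' ∈ Subgroup.upperCentralSeries P 2,
      val (c * c) = val (c' * c') → ⁅c, x⁆ = ⁅c', x⁆ := by
    intro x c hc c' hc' h
    have h1 : (c * c) * (c' * c') = 1 := hv0 (by
        rw [← hmuls c hc c' hc']; exact hsq2 _ (mul_mem hc hc'))
      (by rw [hvmul (hsq2 c hc) (hsq2 c' hc'), h, CharTwo.add_self_eq_zero])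
    have h2 : c * c' ∈ center P := hiff.2 (by rw [hmuls c hc c' hc', h1])
    have h3 : ⁅c * c', x⁆ = 1 := commutatorElement_eq_one_iff_mul_comm.2 (mem_center_iff.1 h2 x).symm
    rw [hmull c hc c' hc', mul_eq_one_iff_eq_inv] at h3
    rw [h3, inv_eq_of_mul_eq_one_left (hcsq c' hc' x)]
  let L : P → F →+ F := fun x => AddMonoidHom.mk' (fun z => val ⁅sr z, x⁆) fun z z' => by
    have e : ⁅sr (z + z'), x⁆ = ⁅sr z * sr z', x⁆ := hLwd x _ (hsr _) _ (mul_mem (hsr z) (hsr z')) (by
      rw [hsrv, hmuls _ (hsr z) _ (hsr z'), hvmul (hsq2 _ (hsr z)) (hsq2 _ (hsr z')), hsrv, hsrv])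
    rw [e, hmull _ (hsr z) _ (hsr z'), hvmul (hcsq _ (hsr z) x) (hcsq _ (hsr z') x)]
  have hL : ∀ x, ∀ c ∈ Subgroup.upperCentralSeries P 2, L x (val (c * c)) = val ⁅c, x⁆ := fun x c hc =>
    congrArg val (hLwd x _ (hsr _) c hc (hsrv _))
  have hLmul : ∀ x y z, L (x * y) z = L x z + L y z := fun x y z => by
    show val _ = val _ + val _
    rw [hmulr _ (hsr z), hvmul (hcsq _ (hsr z) x) (hcsq _ (hsr z) y)]
  have hL1 : ∀ z, L 1 z = 0 := fun z => by
    show val _ = 0
    rw [commutatorElement_eq_one_iff_mul_comm.2 (show sr z * 1 = 1 * sr z by simp), hv1]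
  have hLinv : ∀ x z, L x⁻¹ z = L x z := fun x z => by
    have := hLmul x⁻¹ x z
    rw [inv_mul_cancel, hL1] at this
    exact CharTwo.add_eq_zero.1 this.symm
  have hLα : ∀ x z, L (α x) (ω * z) = ω * L x z := fun x z => by
    show L (α x) _ = ω * val ⁅sr z, x⁆
    rw [← hsrv z, ← hvα (hsq2 _ (hsr z)), map_mul, hL _ _ (map_upper α 2 (hsr z)),
      ← map_commutatorElement, hvα (hcsq _ (hsr z) x)]
    simp only [hsrv]
  have hLY : ∀ g ∈ Y, ∃ a : F, a ≠ 0 ∧ ∃ ρ : F ≃+* F, (∀ x : P, x * x = 1 → val (g x) = a * ρ (val x)) ∧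
      ∀ x z, L (g x) (a * ρ z) = a * ρ (L x z) := by
    intro g hg
    obtain ⟨a', ha', ρ, h⟩ := hvY g hg
    refine ⟨a', ha', ρ, h, fun x z => ?_⟩
    show L (g x) _ = a' * ρ (val ⁅sr z, x⁆)
    rw [← hsrv z, ← h _ (hsq2 _ (hsr z)), map_mul, hL _ _ (map_upper g 2 (hsr z)),
      ← map_commutatorElement, h _ (hcsq _ (hsr z) x)]
    simp only [hsrv]
  have hcard2 : 2 < Nat.card F := by
    rw [Nat.card_eq_fintype_card]
    let f : Fin 3 → F := ![0, val u0, val v0]
    have hu' : val u0 ≠ 0 := fun e => hu0 (hv0 hu02 e)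
    have hv' : val v0 ≠ 0 := fun e => hv0ne (hv0 hv02 e)
    have huv' : val u0 ≠ val v0 := fun e => by
      rw [hval u0 hu02, hval v0 hv02] at e
      exact huv0 (congrArg Subtype.val (E.injective e))
    have hf : Function.Injective f := by
      intro i j
      fin_cases i <;> fin_cases j <;> simp [f, hu', hv', hu'.symm, hv'.symm, huv', huv'.symm]
    have := Fintype.card_le_of_injective f hf
    rw [Fintype.card_fin] at this
    omega
  have hfree : ∀ t : P, t * t = 1 → α t = t → t = 1 := by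
    intro t ht hfix
    by_contra h1
    have h := hvα ht
    rw [hfix] at h
    exact hω1 hcard2 (mul_right_cancel₀ (fun e => h1 (hv0 ht e)) (h.symm.trans (one_mul _).symm))
  have hL2 : ∀ c ∈ Subgroup.upperCentralSeries P 2, ∀ z, L c z = 0 := fun c hc z => by
    show val _ = 0
    rw [commutatorElement_eq_one_iff_mul_comm.2 (hab2 _ (hsr z) c hc), hv1]
  -- the first nonabelian term
  have hexi : ∃ i, ∃ u ∈ Subgroup.upperCentralSeries P i, ∃ v ∈ Subgroup.upperCentralSeries P i, u * v ≠ v * u := by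
    haveI := hP.isNilpotent
    obtain ⟨n, hn⟩ := Group.IsNilpotent.nilpotent' (G := P)
    obtain ⟨u, v, huv⟩ := hne
    exact ⟨n, u, by rw [hn]; trivial, v, by rw [hn]; trivial, huv⟩
  set i := Nat.find hexi with hidef
  obtain ⟨u, hu, v, hv, huv⟩ := Nat.find_spec hexi
  have hmono : Monotone (fun j => Subgroup.upperCentralSeries P j) := monotone_nat_of_le_succ upper_step
  have hi3 : 3 ≤ i := by
    by_contra hlt
    exact huv (hab2 u (hmono (show i ≤ 2 by omega) hu) v (hmono (show i ≤ 2 by omega) hv))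
  set T := Subgroup.upperCentralSeries P i with hT
  have h2T : Subgroup.upperCentralSeries P 2 ≤ T := hmono (show 2 ≤ i by omega)
  let K : Subgroup P :=
    { carrier := {x | x ∈ T ∧ ∀ z, L x z = 0}
      one_mem' := ⟨one_mem _, hL1⟩
      mul_mem' := fun {x y} hx hy => ⟨mul_mem hx.1 hy.1, fun z => by
        rw [hLmul, hx.2, hy.2, add_zero]⟩
      inv_mem' := fun {x} hx => ⟨inv_mem hx.1, fun z => by rw [hLinv, hx.2]⟩ }
  have hKα : ∀ x ∈ K, α x ∈ K := fun x hx => ⟨map_upper α i hx.1, fun z => by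
    rw [show z = ω * (ω⁻¹ * z) by rw [mul_inv_cancel_left₀ hω0], hLα, hx.2, mul_zero]⟩
  have hKY : ∀ g ∈ Y, ∀ x ∈ K, g x ∈ K := by
    intro g hg x hx
    obtain ⟨a', ha', ρ, -, h⟩ := hLY g hg
    refine ⟨map_upper g i hx.1, fun z => ?_⟩
    have := h x (ρ.symm (a'⁻¹ * z))
    rw [RingEquiv.apply_symm_apply, mul_inv_cancel_left₀ ha', hx.2, map_zero, mul_zero] at this
    exact this
  have hKab : ∀ x ∈ K, ∀ y ∈ K, x * y = y * x := by
    by_contra hc
    push Not at hc
    obtain ⟨x, hx, y, hy, hxy⟩ := hc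
    obtain ⟨b, hb⟩ : ∃ b, ⁅a, b⁆ ∉ Subgroup.upperCentralSeries P 1 := by
      by_contra h; push Not at h; exact ha2 (Subgroup.mem_upperCentralSeries_succ_iff.2 h)
    have hc0 := Subgroup.mem_upperCentralSeries_succ_iff.1 ha b
    refine hb ?_
    rw [Subgroup.upperCentralSeries_one, hiff]
    refine sq_one_of_central_in hP hα K hKY ⟨x, hx, y, hy, hxy⟩ ⟨h2T hc0, hL2 _ hc0⟩ fun k hk => ?_
    have h := hk.2 (val (⁅a, b⁆ * ⁅a, b⁆))
    rw [hL k _ hc0] at h
    exact (commutatorElement_eq_one_iff_mul_comm.1 (hv0 (hcsq _ hc0 k) h)).symm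
  have hne0 : ∃ x ∈ T, ∃ z, L x z ≠ 0 := by
    by_contra h
    push Not at h
    exact huv (hKab u ⟨hu, h u hu⟩ v ⟨hv, h v hv⟩)
  -- coefficients
  let lam : (F ≃+* F) → F := fun σ => ω / σ ω
  let coef : P → (F ≃+* F) → F := fun x =>
    (Equiv.ofBijective _ (FieldSpan.comb_bijective (F := F))).symm (L x)
  have hcoef : ∀ x, FieldSpan.comb (coef x) = L x := fun x =>
    (Equiv.ofBijective _ (FieldSpan.comb_bijective (F := F))).apply_symm_apply (L x)
  have hcu : ∀ x c, FieldSpan.comb c = L x → coef x = c := fun x c h =>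
    FieldSpan.comb_injective ((hcoef x).trans h.symm)
  have hcmul : ∀ x y, coef (x * y) = coef x + coef y := fun x y => hcu _ _ (AddMonoidHom.ext fun z => by
    rw [hLmul, ← hcoef, ← hcoef, FieldSpan.comb_apply, FieldSpan.comb_apply, FieldSpan.comb_apply]
    simp only [Pi.add_apply, add_mul, Finset.sum_add_distrib])
  have hcα : ∀ x, coef (α x) = fun σ => lam σ * coef x σ := fun x =>
    hcu _ _ (AddMonoidHom.ext fun z => by
      rw [show z = ω * (ω⁻¹ * z) by rw [mul_inv_cancel_left₀ hω0], hLα, ← hcoef,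
        FieldSpan.comb_apply, FieldSpan.comb_apply, Finset.mul_sum]
      refine Finset.sum_congr rfl fun σ _ => ?_
      rw [map_mul]
      have : σ ω ≠ 0 := fun e => hω0 (σ.injective (by rw [e, map_zero]))
      simp only [lam]
      field_simp)
  have hc1 : coef 1 = 0 := hcu _ _ (AddMonoidHom.ext fun z => by
    rw [hL1, FieldSpan.comb_apply]; simp)
  letI : Algebra (ZMod 2) F := ZMod.algebra F 2
  have hpoly : ∀ p : (ZMod 2)[X], ∀ x ∈ T, ∃ x' ∈ T, coef x' = fun σ => aeval (lam σ) p * coef x σ := by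
    intro p
    induction p using Polynomial.induction_on' with
    | add p q hp hq =>
      intro x hx
      obtain ⟨x1, h1, e1⟩ := hp x hx
      obtain ⟨x2, h2, e2⟩ := hq x hx
      exact ⟨x1 * x2, mul_mem h1 h2, by
        rw [hcmul, e1, e2]; funext σ; simp [map_add, add_mul]⟩
    | monomial n b =>
      intro x hx
      rcases (show b = 0 ∨ b = 1 by revert b; decide) with rfl | rfl
      · exact ⟨1, one_mem _, by rw [hc1]; funext σ; simp⟩
      · refine ⟨(α ^ n) x, map_upper _ i hx, ?_⟩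
        have : ∀ m : ℕ, coef ((α ^ m) x) = fun σ => lam σ ^ m * coef x σ := by
          intro m
          induction m with
          | zero => simp
          | succ m ih =>
            rw [pow_succ', MulAut.mul_apply, hcα, ih]
            funext σ
            ring
        rw [this]
        funext σ
        simp [Polynomial.aeval_monomial]
  -- a pure element
  obtain ⟨σ, x, hxT, b, hb, hpure⟩ : ∃ σ : F ≃+* F, ∃ x ∈ T, ∃ b : F, b ≠ 0 ∧ ∀ z, L x z = b * σ z := by
    have hex : ∃ m, ∃ x ∈ T, coef x ≠ 0 ∧ (Finset.univ.filter fun σ => coef x σ ≠ 0).card = m := by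
      obtain ⟨x, hx, z, hz⟩ := hne0
      exact ⟨_, x, hx, fun h => hz (by rw [← hcoef, h, FieldSpan.comb_apply]; simp), rfl⟩
    obtain ⟨x, hx, hx0, hxm⟩ := Nat.find_spec hex
    obtain ⟨σ, hσ⟩ := Function.ne_iff.1 hx0
    simp only [Pi.zero_apply] at hσ
    refine ⟨σ, x, hx, coef x σ, hσ, fun z => ?_⟩
    rw [← hcoef, FieldSpan.comb_apply, Finset.sum_eq_single σ _ (by simp)]
    intro τ _ hτ
    by_contra h
    have hτ0 : coef x τ ≠ 0 := left_ne_zero_of_mul h
    obtain ⟨x', hx', e'⟩ := hpoly (minpoly (ZMod 2) (lam σ)) x hx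
    have hτ' : coef x' τ ≠ 0 := by
      rw [e']
      refine mul_ne_zero (fun h0 => hτ ?_) hτ0
      haveI : Module.Finite (ZMod 2) F := Module.Finite.of_finite
      have hmp : minpoly (ZMod 2) (lam σ) = minpoly (ZMod 2) (lam τ) :=
        minpoly.eq_of_irreducible_of_monic (minpoly.irreducible (IsIntegral.of_finite _ _)) h0
          (minpoly.monic (IsIntegral.of_finite _ _))
      obtain ⟨g, hg⟩ := (Normal.minpoly_eq_iff_mem_orbit F).1 hmp
      exact hH2 _ _ g.toRingEquiv hg
    have hlt : (Finset.univ.filter fun ρ => coef x' ρ ≠ 0).card < Nat.find hex := by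
      rw [← hxm]
      refine Finset.card_lt_card ⟨fun ρ hρ => ?_, fun hsub => ?_⟩
      · simp only [Finset.mem_filter, Finset.mem_univ, true_and, e'] at hρ ⊢
        exact right_ne_zero_of_mul hρ
      · have := hsub (show σ ∈ Finset.univ.filter fun ρ => coef x ρ ≠ 0 by simp [hσ])
        simp [e', minpoly.aeval] at this
    exact Nat.find_min hex hlt ⟨x', hx', fun h => hτ' (by rw [h]; rfl), rfl⟩
  -- the automorphism is not the identity
  have hσ1 : σ ≠ 1 := by
    rintro rfl
    refine hb ?_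
    have hK : x⁻¹ * α x ∈ K := ⟨mul_mem (inv_mem hxT) (map_upper α i hxT), fun z => by
      rw [hLmul, hLinv, hpure, show z = ω * (ω⁻¹ * z) by rw [mul_inv_cancel_left₀ hω0], hLα, hpure]
      simp only [RingAut.one_apply]
      linear_combination (CharTwo.add_self_eq_zero (b * (ω * (ω⁻¹ * z))))⟩
    have := (mem_of_moved hP hfree K hKα hK).2 1
    rw [hpure, map_one, mul_one] at this
    exact this
  have hbij : Function.Surjective (L x) := fun w =>
    ⟨σ.symm (b⁻¹ * w), by rw [hpure, RingEquiv.apply_symm_apply, mul_inv_cancel_left₀ hb]⟩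
  rcases Nat.lt_or_ge 3 i with hi4 | hi4
  · -- `L x` is idempotent, hence the identity
    have hR : ∀ r ∈ Subgroup.upperCentralSeries P (i - 1), ∀ r' ∈ Subgroup.upperCentralSeries P (i - 1),
        r * r' = r' * r := by
      intro r hr r' hr'
      by_contra hc
      exact Nat.find_min hexi (show i - 1 < Nat.find hexi by omega) ⟨r, hr, r', hr', hc⟩
    have h3R : Subgroup.upperCentralSeries P 3 ≤ Subgroup.upperCentralSeries P (i - 1) :=
      hmono (show 3 ≤ i - 1 by omega)
    have hx2 : x * x ∈ Subgroup.upperCentralSeries P (i - 1) := upper_sq hP hα (i - 1) (by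
      rw [show i - 1 + 1 = i by omega]; exact hxT) hne
    have hid : ∀ z, L x (L x z) = L x z := by
      obtain ⟨r0, hr0, hr04⟩ : ∃ r ∈ Subgroup.upperCentralSeries P 3, (r * r) * (r * r) ≠ 1 := by
        by_contra h
        push Not at h
        refine ha2 ?_
        have hs : (a * a) * (a * a) = 1 := h a ha
        have ha' := h3R ha
        obtain ⟨c, hc, hcv⟩ : ∃ c ∈ Subgroup.upperCentralSeries P 2, val (c * c) = val (a * a) :=
          ⟨_, hsr _, hsrv _⟩
        have hcR := h3R (upper_step 2 hc)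
        have hac : a * c ∈ center P := hiff.2 (by
          have e : (a * c) * (a * c) = (a * a) * (c * c) := by
            rw [mul_assoc, ← mul_assoc c a c, hR c hcR a ha']; group
          rw [e]
          refine hv0 ?_ ?_
          · have hmm := (invol hP hα).mul_mem hs (hsq2 c hc)
            exact hmm
          · rw [hvmul hs (hsq2 c hc), hcv, CharTwo.add_self_eq_zero])
        have := mul_mem (center_le_upper (j := 2) (by omega) hac) (inv_mem hc)
        rwa [mul_inv_cancel_right] at this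
      intro z
      by_cases hz : z = 0
      · rw [hz, map_zero, map_zero]
      obtain ⟨t, ht, rfl⟩ := hvsurj z
      obtain ⟨g, -, hj⟩ := hα.2 _ t hr04 (hsq2 _ (upper_sq hP hα 2 hr0 hne))
        (fun e => hz (by rw [e, hv1])) ht
      set r := g r0 with hrdef
      have hr : r ∈ Subgroup.upperCentralSeries P 3 := map_upper _ 3 hr0
      have hrr : r * r ∈ Subgroup.upperCentralSeries P 2 := upper_sq hP hα 2 hr hne
      have hrt : t = (r * r) * (r * r) := by rw [← hj, hrdef, map_mul, map_mul]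
      set d := ⁅r, x⁆ with hddef
      have hd : d ∈ Subgroup.upperCentralSeries P 2 := Subgroup.mem_upperCentralSeries_succ_iff.1 hr x
      have hdd : L x (val t) = val (d * d) := by
        rw [hrt, hL x _ hrr]
        congr 1
        have e : ⁅r * r, x⁆ = r * d * r⁻¹ * d := comm_sq_left' r x
        rw [e, hR r (h3R hr) d (h3R (upper_step 2 hd)), mul_inv_cancel_right]
      rw [hdd, hL x _ hd]
      have e : ⁅r, x * x⁆ = d * (x * d * x⁻¹) := comm_sq_right r x
      rw [commutatorElement_eq_one_iff_mul_comm.2 (hR r (h3R hr) _ hx2),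
        show x * d * x⁻¹ = ⁅d, x⁆⁻¹ * d by simp only [commutatorElement_def]; group,
        inv_eq_of_mul_eq_one_right (hcsq d hd x), ← mul_assoc,
        mem_center_iff.1 (hcent d hd x) d, mul_assoc] at e
      have := congrArg val e
      rw [hvmul (hcsq d hd x) (hsq2 d hd), hv1, eq_comm, CharTwo.add_eq_zero] at this
      exact this
    refine hσ1 (RingEquiv.ext fun z => ?_)
    have h1 : ∀ w, L x w = w := fun w => by obtain ⟨w, rfl⟩ := hbij w; exact hid w
    have hb1 := h1 1
    rw [hpure, map_one, mul_one] at hb1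
    have hz := h1 z
    rw [hpure, hb1, one_mul] at hz
    exact hz
  · -- the case of the third centre
    have hi : i = 3 := by omega
    have hT3 : T = Subgroup.upperCentralSeries P 3 := by rw [hT, hi]
    let C : P → P → F := fun x y => val (⁅x, y⁆ * ⁅x, y⁆)
    have hCmem : ∀ {x y : P}, x ∈ T → ⁅x, y⁆ ∈ Subgroup.upperCentralSeries P 2 := fun {x y} hx =>
      Subgroup.mem_upperCentralSeries_succ_iff.1 (hT3 ▸ hx) y
    have hcen2 : ∀ {c z : P}, z ∈ center P → (z * c) * (z * c) = (z * z) * (c * c) := fun {c z} hz => by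
      rw [mul_assoc, ← mul_assoc c z c, mem_center_iff.1 hz c]; group
    have hC2 : ∀ x ∈ T, ∀ y y', C x (y * y') = C x y + C x y' := by
      intro x hx y y'
      have hc' := hCmem (y := y') hx
      have hz : ⁅y, ⁅x, y'⁆⁆ ∈ center P := by
        rw [← commutatorElement_inv]; exact inv_mem (hcent _ hc' y)
      have hzc : y * ⁅x, y'⁆ * y⁻¹ = ⁅y, ⁅x, y'⁆⁆ * ⁅x, y'⁆ := by
        simp only [commutatorElement_def]; group
      have e : ⁅x, y * y'⁆ = ⁅x, y⁆ * (y * ⁅x, y'⁆ * y⁻¹) := by
        simp only [commutatorElement_def]; group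
      show val (_ * _) = val _ + val _
      rw [e, hzc, hmuls _ (hCmem hx) _ (mul_mem (center_le_upper (by omega) hz) hc'), hcen2 hz,
        hiff.1 hz, one_mul, hvmul (hsq2 _ (hCmem hx)) (hsq2 _ hc')]
    have hC1 : ∀ x ∈ T, ∀ x' ∈ T, ∀ y, C (x * x') y = C x y + C x' y := by
      intro x hx x' hx' y
      have hc' := hCmem (y := y) hx'
      have hz : ⁅x, ⁅x', y⁆⁆ ∈ center P := by
        rw [← commutatorElement_inv]; exact inv_mem (hcent _ hc' x)
      have e : ⁅x * x', y⁆ = (⁅x, ⁅x', y⁆⁆ * ⁅x', y⁆) * ⁅x, y⁆ := by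
        simp only [commutatorElement_def]; group
      show val (_ * _) = val _ + val _
      rw [e, hmuls _ (mul_mem (center_le_upper (by omega) hz) hc') _ (hCmem hx), hcen2 hz,
        hiff.1 hz, one_mul, hvmul (hsq2 _ hc') (hsq2 _ (hCmem hx)), add_comm]
    have hx4 : ∀ x ∈ T, x * x ∈ Subgroup.upperCentralSeries P 2 := fun x hx =>
      upper_sq hP hα 2 (hT3 ▸ hx) hne
    have hiii : ∀ x ∈ T, ∀ y, L y (val ((x * x) * (x * x))) = C x y + L x (C x y) := by
      intro x hx y
      rw [hL y _ (hx4 x hx), hL x _ (hCmem hx)]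
      have e := comm_sq_left x y
      rw [e, inv_eq_of_mul_eq_one_right (hcsq _ (hCmem hx) x),
        hvmul (hcsq _ (hCmem hx) x) (hsq2 _ (hCmem hx)), add_comm]
    -- the pure elements with this automorphism
    let A : Set F := {c | ∃ y ∈ T, ∀ z, L y z = c * σ z}
    have hAadd : ∀ c ∈ A, ∀ d ∈ A, c + d ∈ A := by
      rintro c ⟨y, hy, hy'⟩ d ⟨y', hy1, hy1'⟩
      exact ⟨y * y', mul_mem hy hy1, fun z => by rw [hLmul, hy', hy1', add_mul]⟩
    have hAlam : ∀ c ∈ A, lam σ * c ∈ A := by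
      rintro c ⟨y, hy, hy'⟩
      refine ⟨α y, map_upper α i hy, fun z => ?_⟩
      have h := hLα y (ω⁻¹ * z)
      rw [mul_inv_cancel_left₀ hω0, hy', map_mul, map_inv₀] at h
      have : σ ω ≠ 0 := fun e => hω0 (σ.injective (by rw [e, map_zero]))
      rw [h]
      simp only [lam]
      field_simp
    -- a nonzero coefficient has a fixed point
    have hker : ∀ y ∈ T, ∀ c : F, c ≠ 0 → (∀ z, L y z = c * σ z) →
        (y * y) * (y * y) = 1 ∧ ∃ w, w ≠ 0 ∧ c * σ w = w := by
      intro y hy c hc hy'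
      have h4 : (y * y) * (y * y) = 1 := by
        refine hv0 (hsq2 _ (hx4 y hy)) ?_
        have h := hL y _ (hx4 y hy)
        rw [commutatorElement_eq_one_iff_mul_comm.2
          (show (y * y) * y = y * (y * y) from mul_assoc y y y), hv1, hy'] at h
        exact σ.injective (by rw [map_zero]; exact (mul_eq_zero.1 h).resolve_left hc)
      refine ⟨h4, ?_⟩
      by_contra hno
      push Not at hno
      have hinj : Function.Injective fun z => L y z + z := by
        intro z z' h
        by_contra hne'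
        refine hno (z + z') (fun e => hne' (CharTwo.add_eq_zero.1 e)) ?_
        rw [← hy', map_add, ← CharTwo.add_eq_zero]
        linear_combination h + CharTwo.add_self_eq_zero (L y z' + z')
      obtain ⟨z, hz⟩ := Finite.surjective_of_injective hinj (val (y * y))
      obtain ⟨c', hc', rfl⟩ : ∃ c' ∈ Subgroup.upperCentralSeries P 2, val (c' * c') = z := ⟨_, hsr z, hsrv z⟩
      have hy2 : y * y ∈ center P := hiff.2 h4
      have e : (y * c') * (y * c') = (⁅c', y⁆⁻¹ * (c' * c')) * (y * y) := by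
        have := mem_center_iff.1 hy2 c'
        calc (y * c') * (y * c') = (y * c' * y⁻¹) * ((y * y) * c') := by group
          _ = (y * c' * y⁻¹) * (c' * (y * y)) := by rw [this]
          _ = _ := by simp only [commutatorElement_def]; group
      have hzero : (y * c') * (y * c') = 1 := by
        rw [e, inv_eq_of_mul_eq_one_right (hcsq c' hc' y)]
        have h1 : ⁅c', y⁆ * (c' * c') ∈ invol hP hα :=
          (invol hP hα).mul_mem (hcsq c' hc' y) (hsq2 c' hc')
        refine hv0 ((invol hP hα).mul_mem h1 h4) ?_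
        rw [hvmul h1 h4, hvmul (hcsq c' hc' y) (hsq2 c' hc'), ← hL y c' hc']
        change L y (val (c' * c')) + val (c' * c') = val (y * y) at hz
        rw [hz, CharTwo.add_self_eq_zero]
      have hyc : y ∈ Subgroup.upperCentralSeries P 2 := by
        have := mul_mem (center_le_upper (j := 2) (by omega) (hiff.2 hzero)) (inv_mem hc')
        rwa [mul_inv_cancel_right] at this
      have h := hy' 1
      rw [hL2 y hyc, map_one, mul_one] at h
      exact hc h.symm
    have hPA : ∀ w : F, w ≠ 0 → w / σ w ∈ A := by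
      obtain ⟨w0, hw0, hw0'⟩ := (hker x hxT b hb hpure).2
      intro w hw
      obtain ⟨t0, ht0, ht0'⟩ := hvsurj w0
      obtain ⟨t1, ht1, ht1'⟩ := hvsurj w
      obtain ⟨g, hg, hgt⟩ := hα.2 t0 t1 (fun e => hw0 (by rw [← ht0', e, hv1])) ht0
        (fun e => hw (by rw [← ht1', e, hv1])) ht1
      obtain ⟨a', ha', ρ, hρ, hLg⟩ := hLY g hg
      have hwa : a' * ρ w0 = w := by rw [← ht0', ← hρ t0 ht0, hgt, ht1']
      refine ⟨g x, map_upper g i hxT, fun z => ?_⟩
      have h := hLg x (ρ.symm (a'⁻¹ * z))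
      rw [RingEquiv.apply_symm_apply, mul_inv_cancel_left₀ ha', hpure, map_mul, ← aut_comm σ ρ,
        RingEquiv.apply_symm_apply, map_mul, map_inv₀] at h
      rw [h, ← hwa, map_mul]
      have e : ρ b * σ (ρ w0) = ρ w0 := by rw [aut_comm σ ρ, ← map_mul, hw0']
      have hs1 : σ a' ≠ 0 := fun e => ha' (σ.injective (by rw [e, map_zero]))
      have hs2 : σ (ρ w0) ≠ 0 := fun e => hw0 (ρ.injective (σ.injective (by rw [e, map_zero, map_zero])))
      field_simp
      linear_combination (σ z) * e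
    have hAP : ∀ c ∈ A, c ≠ 0 → ∃ w : F, w ≠ 0 ∧ c = w / σ w := by
      rintro c ⟨y, hy, hy'⟩ hc
      obtain ⟨w, hw, hw'⟩ := (hker y hy c hc hy').2
      refine ⟨w, hw, ?_⟩
      rw [eq_div_iff (fun e => hw (σ.injective (by rw [e, map_zero])))]
      exact hw'
    -- the fixed field is the prime field
    have hfix : ∀ e : F, σ e = e → e = 0 ∨ e = 1 :=
      fixed_field_small σ hσ1 A ⟨1, one_mem _, fun z => by rw [hL1, zero_mul]⟩ hAadd hAP hPA
    have hr : ∀ {w w' : F}, w ≠ 0 → w / σ w = w' / σ w' → w' ≠ 0 → w = w' := by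
      intro w w' hw he hw'
      have hsw : σ w ≠ 0 := fun e => hw (σ.injective (by rw [e, map_zero]))
      have hsw' : σ w' ≠ 0 := fun e => hw' (σ.injective (by rw [e, map_zero]))
      have : σ (w / w') = w / w' := by
        rw [map_div₀, div_eq_div_iff hsw' hw']
        rw [div_eq_div_iff hsw hsw'] at he
        linear_combination -he
      rcases hfix _ this with h | h
      · exact absurd h (div_ne_zero hw hw')
      · exact (div_eq_one_iff_eq hw').1 h
    -- each value is zero or the fixed point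
    have hCval : ∀ y ∈ T, ∀ c : F, c ≠ 0 → (∀ z, L y z = c * σ z) → ∀ p,
        C y p = 0 ∨ c = C y p / σ (C y p) := by
      intro y hy c hc hy' p
      by_cases h0 : C y p = 0
      · exact Or.inl h0
      right
      have h := hiii y hy p
      rw [(hker y hy c hc hy').1, hv1, map_zero, hy', eq_comm, CharTwo.add_eq_zero] at h
      rw [eq_div_iff (fun e => h0 (σ.injective (by rw [e, map_zero])))]
      exact h.symm
    have hdisj : ∀ p, ∀ y ∈ T, ∀ c : F, c ≠ 0 → (∀ z, L y z = c * σ z) →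
        ∀ y' ∈ T, ∀ c' : F, c' ≠ 0 → (∀ z, L y' z = c' * σ z) → c ≠ c' →
          C y p = 0 → C y' p = 0 := by
      intro p y hy c hc hy' y' hy1 c' hc' hy1' hcc h0
      by_contra hne'
      have hcc0 : c + c' ≠ 0 := fun e => hcc (CharTwo.add_eq_zero.1 e)
      have h1 := (hCval (y * y') (mul_mem hy hy1) (c + c') hcc0
        (fun z => by rw [hLmul, hy', hy1', add_mul]) p)
      rw [hC1 y hy y' hy1, h0, zero_add] at h1
      have h2 := (hCval y' hy1 c' hc' hy1' p).resolve_left hne'
      have h3 := h2.trans (h1.resolve_left hne').symm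
      exact hc (left_eq_add.1 (by rw [add_comm]; exact h3))
    -- a second coefficient
    have hthird : ∀ c : F, ∃ d ∈ A, d ≠ 0 ∧ d ≠ c := by
      intro c
      have hu : val u0 ≠ 0 := fun e => hu0 (hv0 hu02 e)
      have hv : val v0 ≠ 0 := fun e => hv0ne (hv0 hv02 e)
      have hd : ∀ w : F, w ≠ 0 → w / σ w ≠ 0 := fun w hw =>
        div_ne_zero hw fun e => hw (σ.injective (by rw [e, map_zero]))
      have huv : val u0 / σ (val u0) ≠ val v0 / σ (val v0) := by
        intro e
        refine huv0 ?_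
        have h := hr hu e hv
        have h2 : u0 * v0 = 1 := hv0 ((invol hP hα).mul_mem hu02 hv02) (by
          rw [hvmul hu02 hv02, h, CharTwo.add_self_eq_zero])
        rw [mul_eq_one_iff_eq_inv] at h2
        rw [h2, inv_eq_of_mul_eq_one_right hv02]
      by_cases h : val u0 / σ (val u0) = c
      · exact ⟨_, hPA _ hv, hd _ hv, fun e => huv (h.trans e.symm)⟩
      · exact ⟨_, hPA _ hu, hd _ hu, h⟩
    have hall : ∀ p, ∀ y ∈ T, ∀ c : F, c ≠ 0 → (∀ z, L y z = c * σ z) →
        ∀ y' ∈ T, ∀ c' : F, c' ≠ 0 → (∀ z, L y' z = c' * σ z) → C y p = 0 → C y' p = 0 := by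
      intro p y hy c hc hy' y' hy1 c' hc' hy1' h0
      by_cases hcc : c = c'
      · subst hcc
        obtain ⟨d, ⟨yd, hyd, hyd'⟩, hd0, hdc⟩ := hthird c
        exact hdisj p yd hyd d hd0 hyd' y' hy1 c hc hy1' hdc
          (hdisj p y hy c hc hy' yd hyd d hd0 hyd' (Ne.symm hdc) h0)
      · exact hdisj p y hy c hc hy' y' hy1 c' hc' hy1' hcc h0
    have hC1p : ∀ y ∈ T, C y 1 = 0 := fun y _ => by
      show val _ = 0
      rw [commutatorElement_eq_one_iff_mul_comm.2 (show y * 1 = 1 * y by simp), mul_one, hv1]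
    let M : Subgroup P :=
      { carrier := {p | ∀ y ∈ T, ∀ c : F, c ≠ 0 → (∀ z, L y z = c * σ z) → C y p = 0}
        one_mem' := fun y hy _ _ _ => hC1p y hy
        mul_mem' := fun {p q} hp hq y hy c hc hy' => by
          rw [hC2 y hy, hp y hy c hc hy', hq y hy c hc hy', add_zero]
        inv_mem' := fun {p} hp y hy c hc hy' => by
          have := hC2 y hy p⁻¹ p
          rw [inv_mul_cancel, hC1p y hy, hp y hy c hc hy', add_zero] at this
          exact this.symm }
    have hback : ∀ y ∈ T, ∀ c : F, c ≠ 0 → (∀ z, L y z = c * σ z) → ∀ p,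
        ∃ y0 ∈ T, ∃ c0 : F, c0 ≠ 0 ∧ (∀ z, L y0 z = c0 * σ z) ∧ C y (α p) = ω * C y0 p := by
      intro y hy c hc hy' p
      have e : α (α⁻¹ y) = y := α.apply_symm_apply y
      refine ⟨α⁻¹ y, map_upper α⁻¹ i hy, ω⁻¹ * c * σ ω, mul_ne_zero
        (mul_ne_zero (inv_ne_zero hω0) hc) (fun h => hω0 (σ.injective (by rw [h, map_zero]))),
        fun z => ?_, ?_⟩
      · have h := hLα (α⁻¹ y) z
        rw [e, hy', map_mul] at h
        rw [eq_inv_mul_iff_mul_eq₀ hω0 |>.2 h.symm]
        ring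
      · show val _ = ω * val _
        rw [← hvα (hsq2 _ (hCmem (map_upper α⁻¹ i hy))), map_mul, map_commutatorElement, e]
    have hM : ∀ p ∈ M, α p ∈ M := by
      intro p hp y hy c hc hy'
      obtain ⟨y0, hy0, c0, hc0, hy0', e⟩ := hback y hy c hc hy' p
      rw [e, hp y0 hy0 c0 hc0 hy0', mul_zero]
    have hMtop : ∀ p, p ∈ M := fun p => mem_of_moved hP hfree M hM (by
      intro y hy c hc hy'
      have hinv : C y p⁻¹ = C y p := by
        have := hC2 y hy p⁻¹ p
        rw [inv_mul_cancel, hC1p y hy] at this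
        exact CharTwo.add_eq_zero.1 this.symm
      rw [hC2 y hy, hinv, CharTwo.add_eq_zero]
      obtain ⟨y0, hy0, c0, hc0, hy0', e⟩ := hback y hy c hc hy' p
      by_cases h0 : C y p = 0
      · rw [h0, e, hall p y hy c hc hy' y0 hy0 c0 hc0 hy0' h0, mul_zero]
      · have h1 : C y (α p) ≠ 0 := by
          rw [e]
          exact mul_ne_zero hω0 fun h => h0 (hall p y0 hy0 c0 hc0 hy0' y hy c hc hy' h)
        exact hr h0 (((hCval y hy c hc hy' p).resolve_left h0).symm.trans
          ((hCval y hy c hc hy' (α p)).resolve_left h1)) h1)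
    have hx2 : x ∈ Subgroup.upperCentralSeries P 2 := Subgroup.mem_upperCentralSeries_succ_iff.2 fun p => by
      rw [Subgroup.upperCentralSeries_one, hiff]
      exact hv0 (hsq2 _ (hCmem hxT)) (hMtop p x hxT b hb hpure)
    have h := hpure 1
    rw [hL2 x hx2, map_one, mul_one] at h
    exact hb h.symm

/-- The second centre of a nonabelian 2-group with a transitive automorphism is everything. -/
theorem upper_two_eq_top (hne : ∃ a b : P, a * b ≠ b * a)
    (h2 : ∃ x y : P, x ≠ y ∧ x ≠ 1 ∧ x * x = 1 ∧ y ≠ 1 ∧ y * y = 1) :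
    Subgroup.upperCentralSeries P 2 = ⊤ := by
  haveI : Fact (Nat.Prime 2) := ⟨Nat.prime_two⟩
  haveI := hP.isNilpotent
  obtain ⟨n, hn⟩ := Group.IsNilpotent.nilpotent' (G := P)
  have h3 := upper_three hP hα hne h2
  have hall : ∀ k, Subgroup.upperCentralSeries P k ≤ Subgroup.upperCentralSeries P 2 := by
    intro k
    induction k with
    | zero => rw [Subgroup.upperCentralSeries_zero]; exact bot_le
    | succ k ih => exact fun x hx => h3 (Subgroup.mem_upperCentralSeries_succ_iff.2 fun y =>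
        ih (Subgroup.mem_upperCentralSeries_succ_iff.1 hx y))
  exact top_le_iff.1 (hn ▸ hall n)

/-- Higman: squares are central. -/
theorem sq_central (hne : ∃ a b : P, a * b ≠ b * a)
    (h2 : ∃ x y : P, x ≠ y ∧ x ≠ 1 ∧ x * x = 1 ∧ y ≠ 1 ∧ y * y = 1) (x : P) :
    x * x ∈ center P := by
  rw [← Subgroup.upperCentralSeries_one]
  exact upper_sq hP hα 1 (upper_two_eq_top hP hα hne h2 ▸ mem_top x) hne

/-- Higman: commutators are central. -/
theorem comm_central (hne : ∃ a b : P, a * b ≠ b * a)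
    (h2 : ∃ x y : P, x ≠ y ∧ x ≠ 1 ∧ x * x = 1 ∧ y ≠ 1 ∧ y * y = 1) (x y : P) :
    ⁅x, y⁆ ∈ center P := by
  rw [← Subgroup.upperCentralSeries_one]
  exact Subgroup.mem_upperCentralSeries_succ_iff.1 (upper_two_eq_top hP hα hne h2 ▸ mem_top x) y

end CfsgLib.Recog.SuzukiSolv
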